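import Mathlib
import Cfsg.Agent.Lib.Classical.UnitaryBasic

/-!
# Three-dimensional hermitian spaces in characteristic three
-/

set_option autoImplicit false
set_option linter.unusedSectionVars false

namespace Cfsg.Agent.Classical.NormalCover.HermCubic

open Module
open Cfsg.Agent.Forms Cfsg.Agent.Classical.Unitary

variable {F : Type*} [Field F] [Fintype F] {q : ℕ} (hF : Fintype.card F = q ^ 2) (h3 : (3 : F) = 0)

include hF h3

variable {U : Type*} [AddCommGroup U] [Module F U]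

/-- An isometry of order three with `1 + u + u² ≠ 0` permutes an orthonormal basis cyclically. -/
theorem cycle_frame (B : U →ₛₗ[HermStd.qHom hF] U →ₗ[F] F) (hsym : ∀ x y, B x y = B y x ^ q)
    (hdim : finrank F U = 3) (u : Module.End F U) (hu : ∀ x, u (u (u x)) = x)
    (hiso : ∀ x y, B (u y) (u x) = B y x) (hM : ∃ x y, B y (x + u x + u (u x)) ≠ 0) :
    ∃ Γ : (Fin 3 → F) ≃ₗ[F] U, (∀ a b, B (Γ b) (Γ a) = Cfsg.hermForm 3 F q a b) ∧
      ∀ a, u (Γ a) = Γ ![a 2, a 0, a 1] := by
  have hadj : ∀ x y, B y (u x) = B (u (u y)) x := fun x y => by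
    conv_lhs => rw [← hu y]
    rw [hiso]
  have hadj2 : ∀ x y, B y (u (u x)) = B (u y) x := fun x y => by rw [hadj, hadj, hu]
  obtain ⟨v₀, hv₀⟩ : ∃ v, B v (v + u v + u (u v)) ≠ 0 := by
    by_contra hcon
    push Not at hcon
    obtain ⟨x, y, hxy⟩ := hM
    set a := (B y (x + u x + u (u x)))⁻¹
    have hcr : B x (y + u y + u (u y)) = B y (x + u x + u (u x)) ^ q := by
      rw [← hsym, map_add, map_add, hadj, hadj2]
      simp only [map_add, LinearMap.add_apply]
      ring
    have e := hcon (a • x + y)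
    have ex := hcon x
    have ey := hcon y
    simp only [map_add, map_smul, LinearMap.map_smulₛₗ, LinearMap.add_apply, LinearMap.smul_apply, smul_eq_mul,
      HermStd.qHom_apply] at e ex ey hcr
    have h1 : a * B y (x + u x + u (u x)) = 1 := inv_mul_cancel₀ hxy
    have h1' : a ^ q * B y (x + u x + u (u x)) ^ q = 1 := by rw [← mul_pow, h1, one_pow]
    simp only [map_add] at h1 h1'
    exact one_ne_zero (α := F) (by
      linear_combination h1 + h1' - e + (a * a ^ q) * ex + ey + (a ^ q) * hcr + h3)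
  set a₀ := B v₀ v₀ with ha₀
  set a₁ := B (u v₀) v₀ with ha₁
  set a₂ := B (u (u v₀)) v₀ with ha₂
  have c0 : a₀ ^ q = a₀ := by rw [ha₀, ← hsym]
  have c1 : a₁ ^ q = a₂ := by rw [ha₁, ← hsym, hadj, ha₂]
  have c2 : a₂ ^ q = a₁ := by rw [← c1, pow_qq hF]
  have e01 : B v₀ (u v₀) = a₂ := hadj _ _
  have e02 : B v₀ (u (u v₀)) = a₁ := hadj2 _ _
  have e11 : B (u v₀) (u v₀) = a₀ := hiso _ _
  have e21 : B (u (u v₀)) (u v₀) = a₁ := hiso _ _
  have e12 : B (u v₀) (u (u v₀)) = a₂ := by rw [hiso, e01]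
  have e22 : B (u (u v₀)) (u (u v₀)) = a₀ := by rw [hiso, hiso]
  set s := a₀ + a₁ + a₂ with hs
  have hs0 : s ≠ 0 := by
    intro h
    apply hv₀
    rw [map_add, map_add, e01, e02, ← ha₀]
    linear_combination h + hs
  have hsq : s ^ q = s := by
    rw [hs, ← HermStd.qHom_apply hF, map_add, map_add, HermStd.qHom_apply, HermStd.qHom_apply,
      HermStd.qHom_apply, c0, c1, c2]
    ring
  obtain ⟨t, ht⟩ := UnitaryCount.exists_norm_eq hF (μ := (s ^ 3)⁻¹) (inv_ne_zero (pow_ne_zero _ hs0))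
    (by rw [inv_pow, ← pow_mul, mul_comm, pow_mul, hsq])
  have htt : t * t ^ q * s ^ 3 = 1 := by rw [← pow_succ', ht, inv_mul_cancel₀ (pow_ne_zero _ hs0)]
  rw [hs] at htt
  set v := t • (a₀ • v₀ + a₁ • u v₀ + a₂ • u (u v₀)) with hv
  have huv : u v = t • (a₀ • u v₀ + a₁ • u (u v₀) + a₂ • v₀) := by
    simp only [hv, map_smul, map_add, hu]
  have g0 : B v v = 1 := by
    simp only [hv, map_add, map_smul, LinearMap.map_smulₛₗ, LinearMap.add_apply, LinearMap.smul_apply,
      smul_eq_mul, HermStd.qHom_apply, c0, c1, c2, ← ha₀, ← ha₁, ← ha₂, e01, e02, e11, e21, e12, e22]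
    linear_combination htt - (t * t ^ q * (a₀ ^ 2 * a₁ + a₀ ^ 2 * a₂ + a₁ ^ 2 * a₀ + a₁ ^ 2 * a₂ + a₂ ^ 2 * a₀ +
      a₂ ^ 2 * a₁)) * h3
  have g1 : B v (u v) = 0 := by
    simp only [huv]
    simp only [hv, map_add, map_smul, LinearMap.map_smulₛₗ, LinearMap.add_apply, LinearMap.smul_apply,
      smul_eq_mul, HermStd.qHom_apply, c0, c1, c2, ← ha₀, ← ha₁, ← ha₂, e01, e02, e11, e21, e12, e22]
    first
      | linear_combination (t * t ^ q * (a₀ ^ 2 * a₁ + a₂ ^ 2 * a₀ + a₁ ^ 2 * a₂)) * h3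
      | linear_combination (t * t ^ q * (a₀ ^ 2 * a₂ + a₁ ^ 2 * a₀ + a₂ ^ 2 * a₁)) * h3
  have g1' : B (u v) v = 0 := by rw [hsym, g1, zero_pow (q_ne_zero hF)]
  let L : (Fin 3 → F) →ₗ[F] U :=
    { toFun := fun a => a 0 • v + a 1 • u v + a 2 • u (u v)
      map_add' := fun a b => by simp only [Pi.add_apply, add_smul]; abel
      map_smul' := fun c a => by simp only [Pi.smul_apply, smul_eq_mul, RingHom.id_apply, smul_add, smul_smul] }
  have hLapp : ∀ a, L a = a 0 • v + a 1 • u v + a 2 • u (u v) := fun a => rfl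
  have hL : ∀ a b, B (L b) (L a) = Cfsg.hermForm 3 F q a b := fun a b => by
    have f02 : B v (u (u v)) = 0 := by rw [hadj2, g1']
    have f20 : B (u (u v)) v = 0 := by rw [← hadj, g1]
    simp only [hLapp, map_add, map_smul, LinearMap.map_smulₛₗ, LinearMap.add_apply, LinearMap.smul_apply,
      smul_eq_mul, HermStd.qHom_apply, hiso, g0, g1, g1', f02, f20, Cfsg.hermForm, Fin.sum_univ_three]
    ring
  have hinj : Function.Injective L := fun a b hab => sub_eq_zero.1 <| eq_zero_of_H hF fun c => by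
    rw [← hL, map_sub, hab, sub_self, map_zero]
  haveI : FiniteDimensional F U := Module.finite_of_finrank_pos (by omega)
  refine ⟨LinearMap.linearEquivOfInjective L hinj
    (by rw [Module.finrank_fintype_fun_eq_card, Fintype.card_fin, hdim]), fun a b => ?_, fun a => ?_⟩
  · simp only [LinearMap.linearEquivOfInjective_apply]
    exact hL a b
  · simp only [LinearMap.linearEquivOfInjective_apply, hLapp, map_add, map_smul, hu]
    simp only [Matrix.cons_val_zero, Matrix.cons_val_one, Matrix.cons_val]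
    abel

end Cfsg.Agent.Classical.NormalCover.HermCubic
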