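import Mathlib
import Cfsg.Agent.Lib.Forms.HermStd

/-!
# Polynomials in an isometry of a hermitian space
-/

set_option autoImplicit false
set_option linter.unusedSectionVars false

namespace Cfsg.Agent.Classical.NormalCover.Herm

open Polynomial Module
open Cfsg.Agent.Forms

variable {F : Type*} [Field F] [Fintype F] {q : ℕ} (hF : Fintype.card F = q ^ 2)

include hF

theorem exists_pow_hom (K : Type*) [Field K] [Algebra F K] :
    ∃ φ : K →+* K, ∀ x, φ x = x ^ q := by
  obtain ⟨p, hp⟩ := CharP.exists F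
  haveI := hp
  obtain ⟨n, hprime, hn⟩ := FiniteField.card F p
  haveI : Fact p.Prime := ⟨hprime⟩
  obtain ⟨j, -, hj⟩ := (Nat.dvd_prime_pow hprime).1
    (show q ∣ p ^ (n : ℕ) by rw [← hn, hF]; exact dvd_pow_self q two_ne_zero)
  haveI : CharP K p := charP_of_injective_algebraMap (algebraMap F K).injective p
  haveI : ExpChar K p := ExpChar.prime hprime
  exact ⟨iterateFrobenius K p j, fun x => by rw [iterateFrobenius_def, hj]⟩

/-- the square root of the Frobenius map -/
theorem exists_sqrt_frob {f : F[X]} [Fact (Irreducible f)]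
    (h : aeval ((AdjoinRoot.root f ^ q)⁻¹) f = 0) : ∃ σ : AdjoinRoot f ≃ₐ[F] AdjoinRoot f,
      σ (AdjoinRoot.root f) = (AdjoinRoot.root f ^ q)⁻¹ ∧
      (∀ x, σ (σ x) = x ^ Fintype.card F) ∧ (σ ^ finrank F (AdjoinRoot f) = 1) := by
  have hf : Irreducible f := Fact.out
  haveI : Module.Finite F (AdjoinRoot f) := (AdjoinRoot.powerBasis hf.ne_zero).finite
  haveI : Finite (AdjoinRoot f) := Module.finite_of_finite F
  have hd : finrank F (AdjoinRoot f) = f.natDegree := by
    rw [(AdjoinRoot.powerBasis hf.ne_zero).finrank, AdjoinRoot.powerBasis_dim]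
  set α := AdjoinRoot.root f
  let τ : AdjoinRoot f →ₐ[F] AdjoinRoot f :=
    AdjoinRoot.liftAlgHom f (Algebra.ofId F (AdjoinRoot f)) ((α ^ q)⁻¹) h
  let σ : Gal(AdjoinRoot f/F) := AlgEquiv.ofBijective τ (Algebra.IsAlgebraic.algHom_bijective τ)
  have hσα : σ α = (α ^ q)⁻¹ := AdjoinRoot.liftAlgHom_root f (Algebra.ofId F (AdjoinRoot f)) ((α ^ q)⁻¹) h
  have hσ : σ ^ 2 = FiniteField.frobeniusAlgEquivOfAlgebraic F (AdjoinRoot f) := by
    have e : (σ ^ 2 : Gal(AdjoinRoot f/F)).toAlgHom =
        (FiniteField.frobeniusAlgEquivOfAlgebraic F (AdjoinRoot f)).toAlgHom := by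
      refine AdjoinRoot.algHom_ext ?_
      show (σ ^ 2) α = α ^ Fintype.card F
      rw [pow_two, AlgEquiv.mul_apply, hσα, map_inv₀, map_pow, hσα, hF, pow_two q, pow_mul, inv_pow, inv_inv]
    exact AlgEquiv.ext fun x => DFunLike.congr_fun e x
  refine ⟨σ, hσα, fun x => DFunLike.congr_fun hσ x, ?_⟩
  rw [← IsGalois.card_aut_eq_finrank F (AdjoinRoot f)]
  exact pow_card_eq_one'

/-- an irreducible polynomial closed under `α ↦ α ^ (-q)` has odd degree -/
theorem odd_degree {f : F[X]} [Fact (Irreducible f)]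
    (h : aeval ((AdjoinRoot.root f ^ q)⁻¹) f = 0) : Odd f.natDegree := by
  have hf : Irreducible f := Fact.out
  haveI : Module.Finite F (AdjoinRoot f) := (AdjoinRoot.powerBasis hf.ne_zero).finite
  haveI : Finite (AdjoinRoot f) := Module.finite_of_finite F
  have hd : finrank F (AdjoinRoot f) = f.natDegree := by
    rw [(AdjoinRoot.powerBasis hf.ne_zero).finrank, AdjoinRoot.powerBasis_dim]
  obtain ⟨σ, -, hσσ, hσd⟩ := exists_sqrt_frob hF h
  have hσ : σ ^ 2 = FiniteField.frobeniusAlgEquivOfAlgebraic F (AdjoinRoot f) :=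
    AlgEquiv.ext fun x => (by rw [pow_two]; exact hσσ x)
  by_contra hodd
  obtain ⟨j, hj⟩ := Nat.not_odd_iff_even.1 hodd
  have h2 : orderOf (σ ^ 2) ∣ j := orderOf_dvd_of_pow_eq_one (by
    rw [← pow_mul, two_mul, ← hj, ← hd, hσd])
  rw [hσ, FiniteField.orderOf_frobeniusAlgEquivOfAlgebraic, hd] at h2
  have := hf.natDegree_pos
  exact absurd (Nat.le_of_dvd (by omega) h2) (by omega)

variable {U : Type*} [AddCommGroup U] [Module F U]

omit hF in
theorem commute_aeval {T S : Module.End F U} (h : Commute S T) (g : F[X]) : Commute S (aeval T g) := by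
  induction g using Polynomial.induction_on with
  | C a => rw [aeval_C]; exact (Algebra.commutes a S).symm
  | add a b ha hb => rw [map_add]; exact ha.add_right hb
  | monomial k a _ =>
    rw [map_mul, aeval_C, map_pow, aeval_X]
    exact (show Commute S _ from (Algebra.commutes a S).symm).mul_right (h.pow_right _)

theorem root_of_common_kernel {T S : Module.End F U} (hTS : T * S = 1) (hST : S * T = 1) {f : F[X]}
    [Fact (Irreducible f)] {y : U} (hy : y ≠ 0) (h1 : aeval T f y = 0)
    (h2 : aeval S (f.map (HermStd.qHom hF)) y = 0) : aeval ((AdjoinRoot.root f ^ q)⁻¹) f = 0 := by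
  have hf : Irreducible f := Fact.out
  have ann : ∀ {g : F[X]}, aeval T g y = 0 → f ∣ g := fun {g} hg => by
    by_contra hndvd
    obtain ⟨a, b, hab⟩ := (hf.coprime_iff_not_dvd).2 hndvd
    have e := LinearMap.congr_fun (congrArg (aeval T) hab) y
    rw [map_add, map_mul, map_mul, map_one] at e
    simp [h1, hg] at e
    exact hy e.symm
  have hX : ¬ f ∣ X := fun ⟨w, hw⟩ => by
    have e : T y = 0 := by
      rw [← aeval_X (R := F) T, hw, mul_comm, map_mul, Module.End.mul_apply, h1, map_zero]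
    exact hy (by rw [← Module.End.one_apply (R := F) y, ← hST, Module.End.mul_apply, e, map_zero])
  have hα : AdjoinRoot.root f ≠ 0 := by
    rw [← AdjoinRoot.mk_X, Ne, AdjoinRoot.mk_eq_zero]; exact hX
  obtain ⟨s, hs⟩ := AdjoinRoot.mk_surjective (AdjoinRoot.root f)⁻¹
  obtain ⟨w, hw⟩ : f ∣ s * X - 1 := by
    rw [← AdjoinRoot.mk_eq_zero, map_sub, map_mul, map_one, hs, AdjoinRoot.mk_X, inv_mul_cancel₀ hα, sub_self]
  have hcomm : ∀ g : F[X], Commute S (aeval T g) := commute_aeval (hST.trans hTS.symm)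
  have hstep : ∀ z, aeval T f z = 0 → S z = aeval T s z := fun z hz => by
    have h3 : aeval T f (S z) = 0 := by
      rw [← Module.End.mul_apply, ← (hcomm f).eq, Module.End.mul_apply, hz, map_zero]
    have e := LinearMap.congr_fun (congrArg (aeval T) hw) (S z)
    rw [map_sub, map_mul, map_one, aeval_X, mul_comm f, map_mul] at e
    simp only [LinearMap.sub_apply, Module.End.mul_apply, Module.End.one_apply, h3, map_zero,
      sub_eq_zero] at e
    rw [← e, ← Module.End.mul_apply T S, hTS, Module.End.one_apply]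
  have hpow : ∀ k : ℕ, (S ^ k) y = aeval T (s ^ k) y := fun k => by
    induction k with
    | zero => simp
    | succ k ih =>
      rw [pow_succ', Module.End.mul_apply, ih, pow_succ' s, map_mul, Module.End.mul_apply]
      refine hstep _ ?_
      rw [← Module.End.mul_apply, ← map_mul, mul_comm, map_mul, Module.End.mul_apply, h1, map_zero]
  have hcomp : ∀ g : F[X], aeval S g y = aeval T (g.comp s) y := fun g => by
    induction g using Polynomial.induction_on' with
    | add a b ha hb => simp [ha, hb]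
    | monomial k a =>
      rw [monomial_comp, aeval_monomial, map_mul, aeval_C, Module.End.mul_apply, Module.End.mul_apply,
        hpow]
  rw [hcomp] at h2
  obtain ⟨v, hv⟩ := ann h2
  have h4 : aeval (AdjoinRoot.root f)⁻¹ (f.map (HermStd.qHom hF)) = 0 := by
    rw [← hs, ← AdjoinRoot.aeval_eq, ← aeval_comp, hv, map_mul, AdjoinRoot.aeval_eq, AdjoinRoot.mk_self,
      zero_mul]
  obtain ⟨φ, hφ⟩ := exists_pow_hom hF (AdjoinRoot f)
  have h5 := congrArg φ h4
  rw [map_zero, aeval_def, eval₂_map, hom_eval₂, hφ, inv_pow] at h5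
  rw [aeval_def, ← h5]
  congr 1
  refine RingHom.ext fun a => ?_
  simp only [RingHom.comp_apply, HermStd.qHom_apply, map_pow, hφ]
  rw [← pow_mul, ← map_pow, ← pow_two, ← hF, FiniteField.pow_card]

theorem odd_of_common_kernel {T S : Module.End F U} (hTS : T * S = 1) (hST : S * T = 1) {f : F[X]}
    (hf : Irreducible f) {y : U} (hy : y ≠ 0) (h1 : aeval T f y = 0)
    (h2 : aeval S (f.map (HermStd.qHom hF)) y = 0) : Odd f.natDegree :=
  haveI : Fact (Irreducible f) := ⟨hf⟩
  odd_degree hF (root_of_common_kernel hF hTS hST hy h1 h2)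

theorem adjoint_aeval (B : U →ₛₗ[HermStd.qHom hF] U →ₗ[F] F) {T S : Module.End F U}
    (hTS : ∀ x y, B y (T x) = B (S y) x) (g : F[X]) :
    ∀ x y, B y (aeval T g x) = B (aeval S (g.map (HermStd.qHom hF)) y) x := by
  induction g using Polynomial.induction_on with
  | C a =>
    intro x y
    rw [Polynomial.map_C, aeval_C, aeval_C, Module.algebraMap_end_apply, Module.algebraMap_end_apply,
      map_smul, LinearMap.map_smulₛₗ, LinearMap.smul_apply, HermStd.qHom_qHom]
  | add a b ha hb =>
    intro x y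
    simp [ha x y, hb x y]
  | monomial k a ih =>
    intro x y
    have e1 : aeval T (C a * X ^ (k + 1)) x = aeval T (C a * X ^ k) (T x) := by
      simp only [map_mul, map_pow, aeval_C, aeval_X, Module.End.mul_apply, pow_succ]
    have e2 : aeval S ((C a * X ^ (k + 1)).map (HermStd.qHom hF)) y =
        S (aeval S ((C a * X ^ k).map (HermStd.qHom hF)) y) := by
      simp only [Polynomial.map_mul, Polynomial.map_C, Polynomial.map_pow, Polynomial.map_X, map_mul, map_pow,
        aeval_C, aeval_X, Module.End.mul_apply, pow_succ', Module.algebraMap_end_apply, map_smul]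
    rw [e1, ih, hTS, e2]

theorem injective_of_isometry (B : U →ₛₗ[HermStd.qHom hF] U →ₗ[F] F)
    (hB : ∀ y, (∀ x, B y x = 0) → y = 0) {T : Module.End F U} (hT : ∀ x y, B (T y) (T x) = B y x) :
    Function.Injective T := fun a b hab => sub_eq_zero.1 <| hB _ fun x => by
  rw [← hT, map_sub, hab, sub_self]
  simp

variable [FiniteDimensional F U]

theorem exists_adjoint (B : U →ₛₗ[HermStd.qHom hF] U →ₗ[F] F)
    (hB : ∀ y, (∀ x, B y x = 0) → y = 0) {T : Module.End F U} (hT : ∀ x y, B (T y) (T x) = B y x) :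
    ∃ S : Module.End F U, T * S = 1 ∧ S * T = 1 ∧ ∀ x y, B y (T x) = B (S y) x := by
  let e := LinearEquiv.ofInjectiveEndo T (injective_of_isometry hF B hB hT)
  refine ⟨e.symm, LinearMap.ext fun x => e.apply_symm_apply x, LinearMap.ext fun x => e.symm_apply_apply x,
    fun x y => ?_⟩
  rw [LinearEquiv.coe_coe, ← hT x (e.symm y)]
  congr 2
  exact (e.apply_symm_apply y).symm

/-- no irreducible polynomial of even degree kills the whole space -/
theorem odd_of_aeval_eq_zero [Nontrivial U] (B : U →ₛₗ[HermStd.qHom hF] U →ₗ[F] F)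
    (hB : ∀ y, (∀ x, B y x = 0) → y = 0) {T : Module.End F U} (hT : ∀ x y, B (T y) (T x) = B y x)
    {f : F[X]} (hf : Irreducible f) (h0 : aeval T f = 0) : Odd f.natDegree := by
  obtain ⟨S, h1, h2, h3⟩ := exists_adjoint hF B hB hT
  obtain ⟨y, hy⟩ := exists_ne (0 : U)
  refine odd_of_common_kernel hF h1 h2 hf hy (by rw [h0]; rfl) (hB _ fun x => ?_)
  rw [← adjoint_aeval hF B h3, h0, LinearMap.zero_apply, map_zero]

theorem exists_eigen_of_charpoly_root {T : Module.End F U} {c : F} (hc : T.charpoly.IsRoot c) :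
    ∃ v : U, v ≠ 0 ∧ T v = c • v := by
  obtain ⟨v, hv⟩ := ((Module.End.hasEigenvalue_iff_isRoot_charpoly T c).2 hc).exists_hasEigenvector
  exact ⟨v, hv.2, hv.apply_eq_smul⟩

/-- an isometry of a hermitian plane has an eigenvector -/
theorem exists_eigen_plane (B : U →ₛₗ[HermStd.qHom hF] U →ₗ[F] F)
    (hB : ∀ y, (∀ x, B y x = 0) → y = 0) {T : Module.End F U} (hT : ∀ x y, B (T y) (T x) = B y x)
    (hdim : finrank F U = 2) : ∃ v : U, v ≠ 0 ∧ ∃ c : F, T v = c • v := by
  by_cases hr : ∃ c, T.charpoly.IsRoot c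
  · obtain ⟨c, hc⟩ := hr
    obtain ⟨v, hv, he⟩ := exists_eigen_of_charpoly_root hF hc
    exact ⟨v, hv, c, he⟩
  push Not at hr
  haveI : Nontrivial U := Module.nontrivial_of_finrank_pos (R := F) (by omega)
  have hd : T.charpoly.natDegree = 2 := by rw [LinearMap.charpoly_natDegree, hdim]
  have hirr : Irreducible T.charpoly :=
    Polynomial.irreducible_of_degree_le_three_of_not_isRoot (by rw [hd]; decide) hr
  have := odd_of_aeval_eq_zero hF B hB hT hirr (LinearMap.aeval_self_charpoly T)
  rw [hd] at this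
  exact absurd this (by decide)

/-- in dimension four, an isometry without eigenvectors fixes a totally isotropic plane -/
theorem exists_ti_plane (B : U →ₛₗ[HermStd.qHom hF] U →ₗ[F] F)
    (hB : ∀ y, (∀ x, B y x = 0) → y = 0) {T : Module.End F U} (hT : ∀ x y, B (T y) (T x) = B y x)
    (hdim : finrank F U = 4) (hno : ∀ v : U, v ≠ 0 → ∀ c : F, T v ≠ c • v) :
    ∃ v : U, ∃ a b : F, v ≠ 0 ∧ T (T v) = a • v + b • T v ∧ B v v = 0 ∧ B v (T v) = 0 ∧ B (T v) v = 0 := by
  haveI : Nontrivial U := Module.nontrivial_of_finrank_pos (R := F) (by omega)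
  have hroot : ∀ c, ¬ T.charpoly.IsRoot c := fun c hc => by
    obtain ⟨v, hv, he⟩ := exists_eigen_of_charpoly_root hF hc
    exact hno v hv c he
  have hd : T.charpoly.natDegree = 4 := by rw [LinearMap.charpoly_natDegree, hdim]
  have hred : ¬ Irreducible T.charpoly := fun hirr => by
    have := odd_of_aeval_eq_zero hF B hB hT hirr (LinearMap.aeval_self_charpoly T)
    rw [hd] at this
    exact absurd this (by decide)
  obtain ⟨f, g, hfm, hgm, hfg, hg⟩ : ∃ f g : F[X], f.Monic ∧ g.Monic ∧ f * g = T.charpoly ∧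
      g.natDegree ∈ Finset.Ioc 0 2 := by
    rw [(LinearMap.charpoly_monic T).irreducible_iff_natDegree'] at hred
    have h1 : T.charpoly ≠ 1 := fun e => by rw [e, natDegree_one] at hd; omega
    simp only [h1, ne_eq, not_false_eq_true, true_and, not_forall, not_not] at hred
    obtain ⟨f, g, hfm, hgm, hfg, hg⟩ := hred
    exact ⟨f, g, hfm, hgm, hfg, by rw [hd] at hg; exact hg⟩
  rw [Finset.mem_Ioc] at hg
  have hsum : f.natDegree + g.natDegree = 4 := by
    rw [← natDegree_mul hfm.ne_zero hgm.ne_zero, hfg, hd]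
  have hne1 : ∀ u : F[X], u ∣ T.charpoly → u.natDegree ≠ 1 := fun u hu hu1 => by
    obtain ⟨c, hc⟩ := exists_root_of_degree_eq_one ((degree_eq_iff_natDegree_eq_of_pos one_pos).2 hu1)
    exact hroot c (hc.dvd hu)
  have hg2 : g.natDegree = 2 := by have := hne1 g ⟨f, by rw [← hfg, mul_comm]⟩; omega
  have hirr : ∀ u : F[X], u ∣ T.charpoly → u.natDegree = 2 → Irreducible u := fun u hu hu2 =>
    irreducible_of_degree_le_three_of_not_isRoot (by rw [hu2]; decide) fun c hc => hroot c (hc.dvd hu)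
  obtain ⟨u, hu2, hum, huirr, z, hz, hz0⟩ : ∃ u : F[X], u.natDegree = 2 ∧ u.Monic ∧ Irreducible u ∧
      ∃ z : U, z ≠ 0 ∧ aeval T u z = 0 := by
    obtain ⟨y, hy⟩ := exists_ne (0 : U)
    have h0 : aeval T f (aeval T g y) = 0 := by
      rw [← Module.End.mul_apply, ← map_mul, hfg, LinearMap.aeval_self_charpoly]; rfl
    by_cases hz : aeval T g y = 0
    · exact ⟨g, hg2, hgm, hirr g ⟨f, by rw [← hfg, mul_comm]⟩ hg2, y, hy, hz⟩
    · exact ⟨f, by omega, hfm, hirr f ⟨g, hfg.symm⟩ (by omega), _, hz, h0⟩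
  obtain ⟨S, h1, h2, h3⟩ := exists_adjoint hF B hB hT
  let M := LinearMap.ker (aeval T u)
  have hcS : Commute S (aeval T u) := commute_aeval (h2.trans h1.symm) u
  have hM : ∀ x ∈ M, aeval S (u.map (HermStd.qHom hF)) x ∈ M := fun x hx => by
    have hc : Commute (aeval S (u.map (HermStd.qHom hF))) (aeval T u) :=
      (commute_aeval hcS.symm _).symm
    rw [LinearMap.mem_ker] at hx ⊢
    rw [← Module.End.mul_apply, ← hc.eq, Module.End.mul_apply, hx, map_zero]
  let R : M →ₗ[F] M := (aeval S (u.map (HermStd.qHom hF))).restrict hM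
  have hinj : Function.Injective R := by
    rw [← LinearMap.ker_eq_bot, LinearMap.ker_eq_bot']
    intro x hx
    by_contra hne
    have := odd_of_common_kernel hF h1 h2 huirr (y := (x : U)) (fun e => hne (Subtype.ext e))
      (LinearMap.mem_ker.1 x.2) (congrArg Subtype.val hx)
    rw [hu2] at this
    exact absurd this (by decide)
  have hTI : ∀ x ∈ M, ∀ y ∈ M, B y x = 0 := fun x hx y hy => by
    obtain ⟨y', hy'⟩ := LinearMap.injective_iff_surjective.1 hinj ⟨y, hy⟩
    rw [show y = aeval S (u.map (HermStd.qHom hF)) y' from (congrArg Subtype.val hy').symm,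
      ← adjoint_aeval hF B h3, LinearMap.mem_ker.1 hx, map_zero]
  have hzM : z ∈ M := hz0
  have hTz : T z ∈ M := by
    rw [LinearMap.mem_ker, ← Module.End.mul_apply, ← (commute_aeval (Commute.refl T) u).eq,
      Module.End.mul_apply, hz0, map_zero]
  refine ⟨z, -u.coeff 0, -u.coeff 1, hz, ?_, hTI z hzM z hzM, hTI _ hTz z hzM, hTI z hzM _ hTz⟩
  have hu : u = C (u.coeff 0) + C (u.coeff 1) * X + X ^ 2 := by
    conv_lhs => rw [hum.as_sum, hu2, Finset.sum_range_succ, Finset.sum_range_one]
    simp only [pow_zero, pow_one, mul_one]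
    ring
  rw [hu] at hz0
  simp only [map_add, map_mul, map_pow, aeval_C, aeval_X, pow_two, LinearMap.add_apply, Module.End.mul_apply,
    Module.algebraMap_end_apply] at hz0
  rw [neg_smul, neg_smul, eq_comm, ← sub_eq_zero]
  rw [← neg_eq_zero]
  rw [← hz0]
  abel

end Cfsg.Agent.Classical.NormalCover.Herm
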