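import Mathlib
import Cfsg.Agent.Lib.Classical.NormalCover.Basic
import Cfsg.Agent.Lib.Forms.Max.Tensor.Basic

/-!
# `PSL₂`, `PSL₃` and `PSL₄` are covered by two classes of subgroups
-/

set_option autoImplicit false
set_option linter.unusedSectionVars false

namespace Cfsg.Agent.Classical.NormalCover

open Polynomial Module

/-- the polynomial of a field extension has a root modulo every polynomial whose irreducible factors
have degree divisible by the degree of the extension -/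
theorem exists_root_mod {F : Type*} [Field F] [Fintype F] {E : Type*} [Field E] [Algebra F E] [Finite E] (α : E)
    (m : F[X]) : m ≠ 0 → (∀ f : F[X], Irreducible f → f ∣ m → finrank F E ∣ f.natDegree) →
    ∃ r : F[X], m ∣ (minpoly F α).comp r := by
  classical
  refine UniqueFactorizationMonoid.induction_on_coprime (P := fun m : F[X] => m ≠ 0 →
    (∀ f : F[X], Irreducible f → f ∣ m → finrank F E ∣ f.natDegree) → ∃ r : F[X], m ∣ (minpoly F α).comp r)
    m (fun h => absurd rfl h) (fun hu _ _ => ⟨0, hu.dvd⟩) ?_ ?_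
  · intro p i hp _ hdeg
    rcases Nat.eq_zero_or_pos i with rfl | hi
    · exact ⟨0, by simp⟩
    have hirr : Irreducible p := hp.irreducible
    haveI : Fact (Irreducible p) := ⟨hirr⟩
    haveI : Module.Finite F (AdjoinRoot p) := (AdjoinRoot.powerBasis hirr.ne_zero).finite
    haveI : Finite (AdjoinRoot p) := Module.finite_of_finite F
    have hd : finrank F E ∣ finrank F (AdjoinRoot p) := by
      rw [(AdjoinRoot.powerBasis hirr.ne_zero).finrank, AdjoinRoot.powerBasis_dim]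
      exact hdeg p hirr (dvd_pow_self p hi.ne')
    obtain ⟨φ⟩ := FiniteField.nonempty_algHom_of_finrank_dvd (F := F) hd
    obtain ⟨r, hr⟩ := AdjoinRoot.mk_surjective (φ α)
    have h1 : p ∣ (minpoly F α).comp r := by
      rw [← AdjoinRoot.mk_eq_zero, ← AdjoinRoot.aeval_eq, Polynomial.aeval_comp, AdjoinRoot.aeval_eq, hr,
        Polynomial.aeval_algHom_apply, minpoly.aeval, map_zero]
    have hfrob : ∀ N : ℕ, (minpoly F α).comp (r ^ Fintype.card F ^ N) =
        (minpoly F α).comp r ^ Fintype.card F ^ N := by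
      intro N
      induction N with
      | zero => simp
      | succ N ih =>
        rw [pow_succ, pow_mul, pow_mul, ← ih, comp_eq_aeval, comp_eq_aeval]
        exact Polynomial.aeval_algHom_apply (FiniteField.frobeniusAlgHom F F[X]) _ _
    refine ⟨r ^ Fintype.card F ^ i, ?_⟩
    rw [hfrob]
    exact (pow_dvd_pow p (Nat.lt_pow_self Fintype.one_lt_card).le).trans (pow_dvd_pow_of_dvd h1 _)
  · intro x y hxy hx hy hne hdeg
    obtain ⟨r₁, h₁⟩ := hx (left_ne_zero_of_mul hne) fun f hf hd => hdeg f hf (hd.trans (dvd_mul_right x y))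
    obtain ⟨r₂, h₂⟩ := hy (right_ne_zero_of_mul hne) fun f hf hd => hdeg f hf (hd.trans (dvd_mul_left y x))
    obtain ⟨u, v, huv⟩ := hxy.isCoprime
    have hsub : ∀ a b : F[X], a - b ∣ (minpoly F α).comp a - (minpoly F α).comp b := fun a b => by
      simpa [Polynomial.comp, Polynomial.eval_map] using
        sub_dvd_eval_sub a b ((minpoly F α).map (Polynomial.C))
    refine ⟨u * x * r₂ + v * y * r₁, hxy.mul_dvd ?_ ?_⟩
    · exact (dvd_iff_dvd_of_dvd_sub (dvd_trans ⟨u * (r₂ - r₁), by linear_combination r₁ * huv⟩ (hsub _ r₁))).2 h₁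
    · exact (dvd_iff_dvd_of_dvd_sub (dvd_trans ⟨v * (r₁ - r₂), by linear_combination r₂ * huv⟩ (hsub _ r₂))).2 h₂

namespace Linear

open Matrix
open scoped MatrixGroups

variable {F : Type*} [Field F] {n k d : ℕ} {E : Type*} [Field E] [Algebra F E]

local notation "Mn" => Matrix (Fin n) (Fin n) F

/-- the stabiliser of the line of a vector -/
def lineFix (v : Fin n → F) (hv : v ≠ 0) : Subgroup (SL(n, F)) where
  carrier := {g | ∃ c : F, (g : Mn) *ᵥ v = c • v}
  one_mem' := ⟨1, by simp⟩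
  mul_mem' {g h} := fun ⟨c, hc⟩ ⟨e, he⟩ => ⟨e * c, by
    rw [Matrix.SpecialLinearGroup.coe_mul, ← Matrix.mulVec_mulVec, he, Matrix.mulVec_smul, hc, smul_smul]⟩
  inv_mem' {g} := fun ⟨c, hc⟩ => by
    have h1 : ((g⁻¹ : SL(n, F)) : Mn) *ᵥ ((g : Mn) *ᵥ v) = v := by
      rw [Matrix.mulVec_mulVec, ← Matrix.SpecialLinearGroup.coe_mul, inv_mul_cancel,
        Matrix.SpecialLinearGroup.coe_one, Matrix.one_mulVec]
    rw [hc, Matrix.mulVec_smul] at h1
    have hc0 : c ≠ 0 := fun e => hv (by rw [← h1, e, zero_smul])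
    exact ⟨c⁻¹, by conv_rhs => rw [← h1, inv_smul_smul₀ hc0]⟩

/-- the centraliser of the image of a field -/
def fieldFix (ι : E →ₐ[F] Matrix (Fin n) (Fin n) F) : Subgroup (SL(n, F)) where
  carrier := {g | ∀ e, Commute (g : Mn) (ι e)}
  one_mem' e := by rw [Matrix.SpecialLinearGroup.coe_one]; exact Commute.one_left _
  mul_mem' {g h} hg hh e := by rw [Matrix.SpecialLinearGroup.coe_mul]; exact (hg e).mul_left (hh e)
  inv_mem' {g} hg e := by
    have h1 : ((g⁻¹ : SL(n, F)) : Mn) * g = 1 := by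
      rw [← Matrix.SpecialLinearGroup.coe_mul, inv_mul_cancel, Matrix.SpecialLinearGroup.coe_one]
    have h2 : (g : Mn) * ((g⁻¹ : SL(n, F)) : Mn) = 1 := by
      rw [← Matrix.SpecialLinearGroup.coe_mul, mul_inv_cancel, Matrix.SpecialLinearGroup.coe_one]
    calc ((g⁻¹ : SL(n, F)) : Mn) * ι e = ((g⁻¹ : SL(n, F)) : Mn) * ι e * ((g : Mn) * ((g⁻¹ : SL(n, F)) : Mn)) := by
          rw [h2, mul_one]
      _ = ((g⁻¹ : SL(n, F)) : Mn) * (ι e * (g : Mn)) * ((g⁻¹ : SL(n, F)) : Mn) := by simp only [mul_assoc]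
      _ = _ := by rw [← (hg e).eq, ← mul_assoc, h1, one_mul]

theorem center_le_lineFix (v : Fin n → F) (hv : v ≠ 0) : Subgroup.center (SL(n, F)) ≤ lineFix v hv := by
  intro g hg
  obtain ⟨r, _, hr⟩ := Matrix.SpecialLinearGroup.mem_center_iff.1 hg
  exact ⟨r, by rw [← hr]; ext i; simp [Matrix.scalar_apply, Matrix.mulVec_diagonal]⟩

theorem center_le_fieldFix (ι : E →ₐ[F] Matrix (Fin n) (Fin n) F) :
    Subgroup.center (SL(n, F)) ≤ fieldFix ι := by
  intro g hg e
  obtain ⟨r, _, hr⟩ := Matrix.SpecialLinearGroup.mem_center_iff.1 hg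
  rw [← hr]
  exact Matrix.scalar_commute r (Commute.all r) _

theorem exists_SL_map (hn : 2 ≤ n) {u u' : Fin n → F} (hu : u ≠ 0) (hu' : u' ≠ 0) :
    ∃ x : SL(n, F), (x : Mn) *ᵥ u = u' := by
  obtain ⟨a, ha, hau⟩ := Forms.Max.TensorMax.exists_sl_map (by simpa using hn) hu hu'
  exact ⟨⟨a, ha⟩, hau⟩

theorem lineFix_ne_top (hn : 2 ≤ n) (i₀ : Fin n) :
    lineFix (Pi.single i₀ (1 : F)) (by simp) ≠ ⊤ := by
  intro htop
  obtain ⟨j, hj⟩ : ∃ j : Fin n, j ≠ i₀ := by
    haveI : Nontrivial (Fin n) := Fin.nontrivial_iff_two_le.2 hn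
    exact exists_ne i₀
  obtain ⟨x, hx⟩ := exists_SL_map (F := F) hn (u := Pi.single i₀ 1) (u' := Pi.single j 1) (by simp) (by simp)
  obtain ⟨c, hc⟩ : x ∈ lineFix (Pi.single i₀ (1 : F)) _ := htop ▸ Subgroup.mem_top x
  rw [hx] at hc
  simpa [hj] using congrFun hc j

theorem fieldFix_ne_top [NeZero n] (hd : finrank F E ≠ 1) (ι : E →ₐ[F] Matrix (Fin n) (Fin n) F) :
    fieldFix ι ≠ ⊤ := by
  intro htop
  refine hd ((Subalgebra.bot_eq_top_iff_finrank_eq_one).1 (eq_top_iff.2 fun e _ => ?_))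
  have h1 : ι e ∈ Set.range (Matrix.scalar (Fin n)) :=
    Matrix.mem_range_scalar_of_commute_transvectionStruct fun t => by
      let x : SL(n, F) := ⟨t.toMatrix, t.det⟩
      have hx : x ∈ fieldFix ι := by rw [htop]; exact Subgroup.mem_top x
      exact hx e
  obtain ⟨c, hc⟩ := h1
  refine Algebra.mem_bot.2 ⟨c, ι.toRingHom.injective ?_⟩
  show ι (algebraMap F E c) = ι e
  rw [AlgHom.commutes, ← hc]
  rfl

/-- coordinates over the field -/
theorem exists_frame [FiniteDimensional F E] (hdk : finrank F E * k = n) (ι : E →ₐ[F] Matrix (Fin n) (Fin n) F) :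
    ∃ Φ : (Fin k → E) ≃ₗ[F] (Fin n → F), ∀ e z, Φ (e • z) = ι e *ᵥ Φ z := by
  let ρ : E →+* Module.End F (Fin n → F) :=
    ((Matrix.toLinAlgEquiv' (R := F) (n := Fin n)).toAlgHom.comp ι).toRingHom
  have hρ : ∀ e v, ρ e v = ι e *ᵥ v := fun e v => rfl
  letI : Module E (Fin n → F) := Module.compHom _ ρ
  have hsmul : ∀ (e : E) (v : Fin n → F), @HSMul.hSMul E (Fin n → F) (Fin n → F) _ e v = ι e *ᵥ v :=
    fun e v => rfl
  haveI : IsScalarTower F E (Fin n → F) := ⟨fun c e v => by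
    rw [hsmul, hsmul, map_smul, Matrix.smul_mulVec]⟩
  haveI : Module.Finite E (Fin n → F) := Module.Finite.of_restrictScalars_finite F E (Fin n → F)
  have hk : finrank E (Fin n → F) = k := by
    have h1 := Module.finrank_mul_finrank F E (Fin n → F)
    rw [Module.finrank_fintype_fun_eq_card, Fintype.card_fin] at h1
    have h2 : finrank F E * finrank E (Fin n → F) = finrank F E * k := by rw [hdk]; exact h1
    exact Nat.eq_of_mul_eq_mul_left Module.finrank_pos h2
  refine ⟨((Module.finBasisOfFinrankEq E (Fin n → F) hk).equivFun.symm).restrictScalars F, fun e z => ?_⟩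
  rw [LinearEquiv.restrictScalars_apply, LinearEquiv.restrictScalars_apply, map_smul, hsmul]

/-- any two homomorphisms of the field are conjugate under the special linear group -/
theorem exists_conj [Finite E] [Fintype F] (hdk : finrank F E * k = n) (hk : 0 < k)
    (ι ι' : E →ₐ[F] Matrix (Fin n) (Fin n) F) :
    ∃ x : SL(n, F), ∀ e, (x : Mn) * ι' e = ι e * (x : Mn) := by
  classical
  haveI : FiniteDimensional F E := Module.Finite.of_finite
  obtain ⟨Φ, hΦ⟩ := exists_frame hdk ι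
  obtain ⟨Φ', hΦ'⟩ := exists_frame hdk ι'
  set c := LinearMap.det ((Φ'.symm.trans Φ).toLinearMap) with hc
  have hc0 : c ≠ 0 := (LinearEquiv.isUnit_det' _).ne_zero
  obtain ⟨e₀, he₀⟩ := FiniteField.norm_surjective F E c⁻¹
  let D₀ : (Fin k → E) →ₗ[E] (Fin k → E) :=
    Matrix.toLin' (Matrix.diagonal (Function.update (1 : Fin k → E) ⟨0, hk⟩ e₀))
  let D : (Fin n → F) →ₗ[F] (Fin n → F) :=
    Φ'.toLinearMap ∘ₗ D₀.restrictScalars F ∘ₗ Φ'.symm.toLinearMap
  have hD : LinearMap.det D = c⁻¹ := by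
    rw [LinearMap.det_conj, LinearMap.det_restrictScalars, LinearMap.det_toLin', Matrix.det_diagonal,
      Finset.prod_update_of_mem (Finset.mem_univ _)]
    simpa using he₀
  let T := (Φ'.symm.trans Φ).toLinearMap ∘ₗ D
  have hT : ∀ v, T v = Φ (D₀ (Φ'.symm v)) := fun v => by simp [T, D]
  have hdet : (LinearMap.toMatrix' T).det = 1 := by
    rw [LinearMap.det_toMatrix', LinearMap.det_comp, hD, ← hc, mul_inv_cancel₀ hc0]
  refine ⟨⟨LinearMap.toMatrix' T, hdet⟩, fun e => ?_⟩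
  refine Matrix.ext_iff_mulVec.2 fun v => ?_
  show (LinearMap.toMatrix' T * ι' e) *ᵥ v = (ι e * LinearMap.toMatrix' T) *ᵥ v
  rw [← Matrix.mulVec_mulVec, ← Matrix.mulVec_mulVec, LinearMap.toMatrix'_mulVec, LinearMap.toMatrix'_mulVec,
    hT, hT, ← hΦ, ← map_smul D₀]
  congr 2
  rw [LinearEquiv.symm_apply_eq, hΦ', LinearEquiv.apply_symm_apply]

theorem degree_dvd_of_no_root {d : ℕ} (hnd : n = 2 ∧ d = 2 ∨ n = 3 ∧ d = 3 ∨ n = 4 ∧ d = 2) {χ f : F[X]}
    (hχ : χ.natDegree = n) (hroot : ∀ c, ¬ χ.IsRoot c) (hf : Irreducible f) (hdvd : f ∣ χ) :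
    d ∣ f.natDegree := by
  obtain ⟨h, rfl⟩ := hdvd
  have hne : f * h ≠ 0 := fun e => hroot 0 (by rw [e]; simp)
  have h0 : h ≠ 0 := right_ne_zero_of_mul hne
  have hno : ∀ g : F[X], g ∣ f * h → g.natDegree ≠ 1 := fun g hg hg1 => by
    obtain ⟨c, hc⟩ := Polynomial.exists_root_of_degree_eq_one
      ((Polynomial.degree_eq_iff_natDegree_eq_of_pos one_pos).2 hg1)
    exact hroot c (hc.dvd hg)
  have h1 := hno f (dvd_mul_right _ _)
  have h2 := hno h (dvd_mul_left _ _)
  have h3 := hf.natDegree_pos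
  rw [Polynomial.natDegree_mul hf.ne_zero h0] at hχ
  rcases hnd with ⟨rfl, rfl⟩ | ⟨rfl, rfl⟩ | ⟨rfl, rfl⟩
  · exact ⟨1, by omega⟩
  · exact ⟨1, by omega⟩
  · obtain h4 | h4 : f.natDegree = 2 ∨ f.natDegree = 4 := by omega
    · exact ⟨1, by omega⟩
    · exact ⟨2, by omega⟩

theorem exists_eigvec_or_field [Fintype F] [Finite E]
    (hnd : n = 2 ∧ finrank F E = 2 ∨ n = 3 ∧ finrank F E = 3 ∨ n = 4 ∧ finrank F E = 2) (g : SL(n, F)) :
    (∃ v : Fin n → F, v ≠ 0 ∧ ∃ c : F, (g : Mn) *ᵥ v = c • v) ∨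
      ∃ ι : E →ₐ[F] Matrix (Fin n) (Fin n) F, g ∈ fieldFix ι := by
  classical
  haveI : FiniteDimensional F E := Module.Finite.of_finite
  by_cases hroot : ∃ c, ((g : Mn).charpoly).IsRoot c
  · left
    obtain ⟨c, hc⟩ := hroot
    rw [Polynomial.IsRoot, Matrix.eval_charpoly] at hc
    obtain ⟨v, hv, hv0⟩ := Matrix.exists_mulVec_eq_zero_iff.2 hc
    rw [Matrix.sub_mulVec, sub_eq_zero] at hv0
    exact ⟨v, hv, c, by rw [← hv0]; ext i; simp [Matrix.scalar_apply, Matrix.mulVec_diagonal]⟩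
  · right
    push Not at hroot
    let pb := Field.powerBasisOfFiniteOfSeparable F E
    obtain ⟨r, hr⟩ := exists_root_mod (E := E) pb.gen (g : Mn).charpoly (Matrix.charpoly_monic _).ne_zero
      (fun f hf hd => degree_dvd_of_no_root hnd
        (by rw [Matrix.charpoly_natDegree_eq_dim, Fintype.card_fin]) hroot hf hd)
    have h0 : aeval (aeval (g : Mn) r) (minpoly F pb.gen) = 0 := by
      rw [← aeval_comp]
      obtain ⟨w, hw⟩ := hr
      rw [hw, map_mul, Matrix.aeval_self_charpoly, zero_mul]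
    refine ⟨pb.lift _ h0, fun e => ?_⟩
    obtain ⟨p, -, rfl⟩ := pb.exists_eq_aeval e
    rw [← Polynomial.aeval_algHom_apply, PowerBasis.lift_gen, ← aeval_comp]
    conv_lhs => rw [← aeval_X (R := F) (g : Mn)]
    exact (Commute.all (X : F[X]) (p.comp r)).map (aeval (g : Mn))

theorem coversTwo_linear {F : Type*} [Field F] [Fintype F] {n : ℕ} (hn : n = 2 ∨ n = 3 ∨ n = 4) :
    CoversTwo (Matrix.ProjectiveSpecialLinearGroup (Fin n) F) := by
  classical
  obtain ⟨d, k, hk, hdk, hnd⟩ : ∃ d k : ℕ, 0 < k ∧ d * k = n ∧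
      (n = 2 ∧ d = 2 ∨ n = 3 ∧ d = 3 ∨ n = 4 ∧ d = 2) := by
    rcases hn with rfl | rfl | rfl
    exacts [⟨2, 1, by simp⟩, ⟨3, 1, by simp⟩, ⟨2, 2, by simp⟩]
  have hd2 : 2 ≤ d := by omega
  have hn2 : 2 ≤ n := by omega
  haveI : NeZero n := ⟨by omega⟩
  haveI : NeZero d := ⟨by omega⟩
  obtain ⟨p, hp⟩ := CharP.exists F
  haveI := hp
  haveI : Fact p.Prime := ⟨CharP.char_is_prime F p⟩
  haveI : Finite (FiniteField.Extension F p d) := Module.finite_of_finite F
  have hfr : finrank F (FiniteField.Extension F p d) = d := FiniteField.finrank_extension F p d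
  let E := FiniteField.Extension F p d
  let i₀ : Fin n := ⟨0, by omega⟩
  -- a reference homomorphism, by multiplication
  obtain ⟨ι⟩ : Nonempty (E →ₐ[F] Matrix (Fin n) (Fin n) F) := by
    let e : (Fin k → E) ≃ₗ[F] (Fin n → F) := LinearEquiv.ofFinrankEq _ _ (by
      rw [Module.finrank_pi_fintype, Finset.sum_const, Finset.card_univ, Fintype.card_fin, hfr,
        Module.finrank_fintype_fun_eq_card, Fintype.card_fin, smul_eq_mul, mul_comm, hdk])
    exact ⟨(LinearMap.toMatrixAlgEquiv'.toAlgHom).comp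
      ((e.conjAlgEquiv F).toAlgHom.comp (Algebra.lsmul F F (Fin k → E)))⟩
  refine covers_quotient _ (lineFix (Pi.single i₀ (1 : F)) (by simp)) (fieldFix ι)
    (center_le_lineFix _ _) (center_le_fieldFix _) (lineFix_ne_top hn2 i₀)
    (fieldFix_ne_top (by rw [hfr]; omega) ι) fun g => ?_
  rcases exists_eigvec_or_field (E := E) (by rwa [hfr]) g with ⟨v, hv, c, hc⟩ | ⟨ι', hι'⟩
  · obtain ⟨x, hx⟩ := exists_SL_map hn2 hv (u' := Pi.single i₀ (1 : F)) (by simp)
    refine ⟨x, Or.inl ⟨c, ?_⟩⟩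
    conv_lhs => rw [← hx]
    rw [Matrix.mulVec_mulVec, ← Matrix.SpecialLinearGroup.coe_mul, inv_mul_cancel_right,
      Matrix.SpecialLinearGroup.coe_mul, ← Matrix.mulVec_mulVec, hc, Matrix.mulVec_smul, hx]
  · obtain ⟨x, hx⟩ := exists_conj (k := k) (by rw [hfr, hdk]) hk ι ι'
    refine ⟨x, Or.inr fun e => ?_⟩
    have h1 : (x : Matrix (Fin n) (Fin n) F) * ((x⁻¹ : SL(n, F)) : Matrix (Fin n) (Fin n) F) = 1 := by
      rw [← Matrix.SpecialLinearGroup.coe_mul, mul_inv_cancel, Matrix.SpecialLinearGroup.coe_one]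
    have h2 : ((x⁻¹ : SL(n, F)) : Matrix (Fin n) (Fin n) F) * (x : Matrix (Fin n) (Fin n) F) = 1 := by
      rw [← Matrix.SpecialLinearGroup.coe_mul, inv_mul_cancel, Matrix.SpecialLinearGroup.coe_one]
    have e1 : ι e = (x : Matrix (Fin n) (Fin n) F) * ι' e * ((x⁻¹ : SL(n, F)) : Matrix (Fin n) (Fin n) F) := by
      rw [hx, mul_assoc, h1, mul_one]
    rw [e1, Matrix.SpecialLinearGroup.coe_mul, Matrix.SpecialLinearGroup.coe_mul]
    show _ * _ = _ * _
    simp only [mul_assoc]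
    rw [← mul_assoc ((x⁻¹ : SL(n, F)) : Matrix (Fin n) (Fin n) F) (x : Matrix (Fin n) (Fin n) F), h2, one_mul,
      ← mul_assoc ((x⁻¹ : SL(n, F)) : Matrix (Fin n) (Fin n) F) (x : Matrix (Fin n) (Fin n) F), h2, one_mul,
      ← mul_assoc (g : Matrix (Fin n) (Fin n) F), (hι' e).eq, mul_assoc]

end Linear

end Cfsg.Agent.Classical.NormalCover
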