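import Mathlib
import Cfsg.Agent.Lib.Classical.NormalCover.Basic
import Cfsg.Agent.Lib.Classical.Symplectic
import Cfsg.Agent.Lib.Classical.PSpMinIndex.Even

/-!
# Every element of `Sp_{2m}(2^a)` preserves a quadratic form polarising to the alternating form
-/

set_option autoImplicit false
set_option linter.unusedSectionVars false

namespace Cfsg.Agent.Classical.NormalCover

open Matrix
open Cfsg.Agent.Forms.SympStd
open Cfsg.Agent.Classical.Symplectic

variable {F : Type*} [Field F] [Fintype F] {m : ℕ}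

local notation "Vec" => (Fin m ⊕ Fin m → F)
local notation "Mat" => Matrix (Fin m ⊕ Fin m) (Fin m ⊕ Fin m) F
local notation "Sp" => Matrix.symplecticGroup (Fin m) F
local notation "f" => Cfsg.sympForm m F

/-- The hyperbolic quadratic form. -/
def qHyp (v : Fin m ⊕ Fin m → F) : F := ∑ i, v (Sum.inl i) * v (Sum.inr i)

/-- The forms polarising to the alternating form. -/
def qShift (a v : Fin m ⊕ Fin m → F) : F := qHyp v + Cfsg.sympForm m F a v * Cfsg.sympForm m F a v

/-- The stabiliser of a form. -/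
def formStab (a : Fin m ⊕ Fin m → F) : Subgroup (Matrix.symplecticGroup (Fin m) F) where
  carrier := {g | ∀ v, qShift a ((g : Mat) *ᵥ v) = qShift a v}
  one_mem' v := by rw [show ((1 : Sp) : Mat) = 1 from rfl, one_mulVec]
  mul_mem' {g h} hg hh v := by rw [mul_mulVec_sp, hg, hh]
  inv_mem' {g} hg v := by
    conv_rhs => rw [show v = (g : Mat) *ᵥ (((g⁻¹ : Sp) : Mat) *ᵥ v) by
      rw [← mul_mulVec_sp, mul_inv_cancel]; exact (one_mulVec v).symm]
    rw [hg]

theorem qHyp_add (h2 : (2 : F) = 0) (v w : Vec) : qHyp (v + w) = qHyp v + qHyp w + f v w := by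
  rw [sympForm_eq, qHyp, qHyp, qHyp, ← Finset.sum_add_distrib, ← Finset.sum_add_distrib]
  refine Finset.sum_congr rfl fun i _ => ?_
  simp only [Pi.add_apply]
  linear_combination (v (Sum.inl i) * w (Sum.inr i)) * h2

theorem qHyp_smul (c : F) (v : Vec) : qHyp (c • v) = c * c * qHyp v := by
  rw [qHyp, qHyp, Finset.mul_sum]
  exact Finset.sum_congr rfl fun i _ => by simp only [Pi.smul_apply, smul_eq_mul]; ring

theorem qShift_add (h2 : (2 : F) = 0) (a v w : Vec) :
    qShift a (v + w) = qShift a v + qShift a w + f v w := by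
  rw [qShift, qShift, qShift, qHyp_add h2, f_add_right]
  linear_combination (f a v * f a w) * h2

theorem qShift_smul (a : Vec) (c : F) (v : Vec) : qShift a (c • v) = c * c * qShift a v := by
  rw [qShift, qShift, qHyp_smul, f_smul_right]
  ring

theorem mul_self_inj_two (h2 : (2 : F) = 0) {s t : F} (h : s * s = t * t) : s = t := by
  have h1 : (s - t) * (s - t) = 0 := by linear_combination h + (t * t - s * t) * h2
  exact sub_eq_zero.1 (mul_self_eq_zero.1 h1)

/-- The translation part of an element on the forms. -/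
theorem exists_shift (h2 : (2 : F) = 0) (g : Sp) :
    ∃ d : Vec, ∀ v, qHyp ((g : Mat) *ᵥ v) = qHyp v + f d v * f d v := by
  choose D hD using fun v : Vec => PSpMinIndex.exists_sqrt h2 (qHyp ((g : Mat) *ᵥ v) + qHyp v)
  let φ : Vec →ₗ[F] F :=
    { toFun := D
      map_add' := fun v w => mul_self_inj_two h2 (by
        rw [hD, Matrix.mulVec_add, qHyp_add h2, qHyp_add h2, sympForm_mulVec]
        linear_combination (f v w - D v * D w) * h2 - hD v - hD w)
      map_smul' := fun c v => mul_self_inj_two h2 (by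
        rw [hD, Matrix.mulVec_smul, qHyp_smul, qHyp_smul, RingHom.id_apply, smul_eq_mul]
        linear_combination (-(c * c)) * hD v) }
  obtain ⟨d, hd⟩ := (LinearMap.BilinForm.toDual (sympB m F) sympB_nondegenerate).surjective φ
  refine ⟨d, fun v => ?_⟩
  have h1 : f d v = D v := by
    have h0 := LinearMap.congr_fun hd v
    rw [LinearMap.BilinForm.toDual_def, sympB_apply] at h0
    exact h0
  rw [h1, hD]
  linear_combination (-qHyp v) * h2

theorem exists_fixed_form (h2 : (2 : F) = 0) (g : Sp) : ∃ c : Vec, g ∈ formStab c := by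
  obtain ⟨d, hd⟩ := exists_shift h2 g
  let T : Vec →ₗ[F] Vec := LinearMap.id + Matrix.mulVecLin ((g⁻¹ : Sp) : Mat)
  have hT : ∀ x, T x = x + ((g⁻¹ : Sp) : Mat) *ᵥ x := fun x => rfl
  have hmem : d ∈ (LinearMap.range T) := by
    rw [← LinearMap.BilinForm.orthogonal_orthogonal (B := sympB m F) sympB_nondegenerate
      (LinearMap.IsAlt.isRefl fun x => by rw [sympB_apply, sympForm_self]) (LinearMap.range T)]
    rw [LinearMap.BilinForm.mem_orthogonal_iff]
    intro v hv
    rw [LinearMap.BilinForm.mem_orthogonal_iff] at hv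
    show sympB m F v d = 0
    have hfix : (g : Mat) *ᵥ v = v := by
      by_contra hne
      obtain ⟨x, hx⟩ := exists_partner (sub_ne_zero.2 hne)
      have h1 : f (T x) v = 0 := by
        have := hv (T x) ⟨x, rfl⟩
        rwa [sympB_apply] at this
      rw [hT, f_add_left, ← sympForm_mulVec g (((g⁻¹ : Sp) : Mat) *ᵥ x) v, ← mul_mulVec_sp, mul_inv_cancel,
        show ((1 : Sp) : Mat) = 1 from rfl, one_mulVec] at h1
      rw [sub_eq_add_neg, f_add_left, ← neg_one_smul F v, f_smul_left, sympForm_swap x _,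
        sympForm_swap x v] at hx
      exact one_ne_zero (α := F) (by linear_combination (-1 : F) * hx - h1 + (f x v) * h2)
    have h3 := hd v
    rw [hfix] at h3
    have h5 : f d v = 0 := mul_self_eq_zero.1 (by linear_combination -h3)
    rw [sympB_apply, sympForm_swap d v, h5, neg_zero]
  obtain ⟨c, hc⟩ := hmem
  refine ⟨c, fun v => ?_⟩
  have h4 : f c ((g : Mat) *ᵥ v) = f c v + f d v := by
    have e : f (((g⁻¹ : Sp) : Mat) *ᵥ c) v = f c ((g : Mat) *ᵥ v) := by
      rw [← sympForm_mulVec g, ← mul_mulVec_sp, mul_inv_cancel, show ((1 : Sp) : Mat) = 1 from rfl, one_mulVec]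
    rw [← hc, hT, f_add_left, e]
    linear_combination (-f c v) * h2
  rw [qShift, qShift, hd, h4]
  linear_combination (f d v * f d v + f c v * f d v) * h2

theorem qShift_tv (h2 : (2 : F) = 0) (a v : Vec) (t : F) (x : Vec) :
    qShift a ((tv v t : Mat) *ᵥ x) = qShift a x + (t * t * qShift a v + t) * (f x v * f x v) := by
  rw [tv_mulVec, qShift_add h2, qShift_smul, f_smul_right]
  ring

/-- A transvection moves one form to another. -/
theorem exists_move_form (h2 : (2 : F) = 0) (a v : Vec) {u : F} (hu : u * u + u = qShift a v) :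
    ∃ x : Sp, ∀ y, qShift a ((x : Mat) *ᵥ y) = qShift (a + v) y := by
  obtain ⟨t, ht⟩ : ∃ t : F, t * t * qShift a v + t = 1 := by
    by_cases h0 : qShift a v = 0
    · exact ⟨1, by rw [h0]; ring⟩
    · have hu0 : u ≠ 0 := fun e => h0 (by rw [← hu, e]; ring)
      refine ⟨u⁻¹, ?_⟩
      rw [← hu]
      field_simp
      linear_combination h2
  refine ⟨tv v t, fun y => ?_⟩
  rw [qShift_tv h2, ht, one_mul, qShift, qShift, f_add_left, sympForm_swap v y]
  linear_combination (-(f a y * f v y)) * h2

theorem formStab_ne_top (h2 : (2 : F) = 0) (hm : 2 ≤ m) (a : Vec) : formStab a ≠ ⊤ := by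
  intro htop
  have key : ∀ v : Vec, v ≠ 0 → qShift a v = 1 := fun v hv => by
    obtain ⟨x, hx⟩ := exists_partner hv
    have h1 : (tv v 1 : Sp) ∈ formStab a := htop ▸ Subgroup.mem_top _
    have h3 := h1 x
    rw [qShift_tv h2, sympForm_swap v x, hx] at h3
    linear_combination h3 - h2
  let i₀ : Fin m := ⟨0, by omega⟩
  let i₁ : Fin m := ⟨1, by omega⟩
  have hne : i₀ ≠ i₁ := by simp [i₀, i₁, Fin.ext_iff]
  set v : Vec := Pi.single (Sum.inl i₀) 1
  set w : Vec := Pi.single (Sum.inl i₁) 1
  have hv : v ≠ 0 := by simp [v]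
  have hw : w ≠ 0 := by simp [w]
  have hvw : v + w ≠ 0 := fun e => by simpa [v, w, Ne.symm hne] using congrFun e (Sum.inl i₁)
  have hf : f v w = 0 := by simp [sympForm_eq, v, w]
  have h4 := qShift_add h2 a v w
  rw [key _ hvw, key _ hv, key _ hw, hf] at h4
  exact one_ne_zero (α := F) (by linear_combination -h4)

theorem conj_mem_formStab {a c : Vec} {g x : Sp} (hg : g ∈ formStab c)
    (hx : ∀ y, qShift a ((x : Mat) *ᵥ y) = qShift c y) : x * g * x⁻¹ ∈ formStab a := fun v => by
  rw [mul_mulVec_sp, mul_mulVec_sp, hx, hg, ← hx, ← mul_mulVec_sp, mul_inv_cancel,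
    show ((1 : Sp) : Mat) = 1 from rfl, one_mulVec]

theorem center_eq_bot (h2 : (2 : F) = 0) : Subgroup.center Sp = ⊥ := by
  rw [Subgroup.eq_bot_iff_forall]
  intro A hA
  obtain ⟨a, ha⟩ := (mem_center_iff A).1 hA
  refine sp_ext fun v => ?_
  rw [ha v, show ((1 : Sp) : Mat) = 1 from rfl, one_mulVec]
  by_cases hv : v = 0
  · simp [hv]
  obtain ⟨w, hw⟩ := exists_partner hv
  have h1 := sympForm_mulVec A v w
  rw [ha, ha, f_smul_left, f_smul_right, hw, mul_one] at h1
  rw [mul_self_inj_two h2 (s := a) (t := 1) (by rw [h1, one_mul]), one_smul]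

/-- The symplectic groups in even characteristic are covered by two classes. -/
theorem coversTwo_symp_even (h2 : (2 : F) = 0) (hm : 2 ≤ m) : CoversTwo (Cfsg.PSp m F) := by
  classical
  have hz := center_eq_bot (F := F) (m := m) h2
  let Φ : F →+ F :=
    { toFun := fun t => t * t + t
      map_zero' := by simp
      map_add' := fun s t => by linear_combination (s * t) * h2 }
  have hker : Nat.card Φ.ker = 2 := by
    have e : (Φ.ker : Set F) = {0, 1} := by
      ext t
      show t * t + t = 0 ↔ _
      constructor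
      · intro h
        rcases mul_eq_zero.1 (show t * (t + 1) = 0 by linear_combination h) with h | h
        · exact Or.inl h
        · exact Or.inr (by linear_combination h - h2 : t = 1)
      · rintro (rfl | rfl)
        · simp
        · linear_combination h2
    have h3 : Nat.card (Φ.ker : Set F) = 2 := by
      rw [e, Nat.card_coe_set_eq, Set.ncard_pair zero_ne_one]
    exact h3
  have hidx : Φ.range.index = 2 := by
    have h3 := Φ.ker.card_mul_index
    rw [AddSubgroup.index_ker, hker] at h3
    have h4 := Φ.range.card_mul_index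
    exact Nat.eq_of_mul_eq_mul_left (Nat.card_pos (α := Φ.range)) (by rw [h4, ← h3, mul_comm])
  obtain ⟨b, hb⟩ : ∃ b, b ∉ Φ.range := by
    by_contra hc
    push Not at hc
    rw [AddSubgroup.index_eq_one.2 (eq_top_iff.2 fun x _ => hc x)] at hidx
    exact absurd hidx (by norm_num)
  let i₀ : Fin m := ⟨0, by omega⟩
  set c₀ : Vec := Pi.single (Sum.inl i₀) b + Pi.single (Sum.inr i₀) 1 with hc₀
  have hQc₀ : qHyp c₀ = b := by
    rw [qHyp, Finset.sum_eq_single i₀]
    · simp [c₀]
    · intro j _ hj; simp [c₀, hj]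
    · simp
  refine covers_quotient _ (formStab 0) (formStab c₀) (hz ▸ bot_le) (hz ▸ bot_le) (formStab_ne_top h2 hm _)
    (formStab_ne_top h2 hm _) fun g => ?_
  obtain ⟨c, hc⟩ := exists_fixed_form h2 g
  by_cases hmem : qHyp c ∈ Φ.range
  · obtain ⟨u, hu⟩ := hmem
    obtain ⟨x, hx⟩ := exists_move_form h2 (0 : Vec) c (u := u) (by
      rw [show u * u + u = Φ u from rfl, hu, qShift, sympForm_eq]; simp)
    exact ⟨x, Or.inl (conj_mem_formStab hc fun y => by rw [hx y, zero_add])⟩
  · obtain ⟨u, hu⟩ : qHyp c + b ∈ Φ.range :=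
      (AddSubgroup.add_mem_iff_of_index_two hidx).2 ⟨fun h => absurd h hmem, fun h => absurd h hb⟩
    obtain ⟨x, hx⟩ := exists_move_form h2 c₀ (c + c₀) (u := u + f c₀ c) (by
      have e1 : u * u + u = qHyp c + b := hu
      have e2 : f c₀ (c + c₀) = f c₀ c := by rw [f_add_right, sympForm_self, add_zero]
      rw [qShift, qHyp_add h2, hQc₀, e2, sympForm_swap c₀ c]
      linear_combination e1 + (u * f c₀ c + f c₀ c) * h2)
    refine ⟨x, Or.inr (conj_mem_formStab hc fun y => ?_)⟩
    rw [hx y, show c₀ + (c + c₀) = c + (2 : F) • c₀ by rw [two_smul]; abel, h2, zero_smul, add_zero]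

end Cfsg.Agent.Classical.NormalCover
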