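import Mathlib

/-!
# Normal forms for isometries of six-dimensional symplectic spaces in characteristic three
-/

set_option autoImplicit false
set_option linter.unusedSectionVars false

namespace Cfsg.Agent.Classical.NormalCover.Indec

open Polynomial Module

variable {F : Type*} [Field F] {V : Type*} [AddCommGroup V] [Module F V]

/-- an invariant proper non-degenerate subspace -/
def HasSplit (B : LinearMap.BilinForm F V) (g : V ≃ₗ[F] V) : Prop :=
  ∃ U : Submodule F V, U ≠ ⊥ ∧ U ≠ ⊤ ∧ (∀ x ∈ U, g x ∈ U) ∧ Disjoint U (B.orthogonal U)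

/-- `g + g⁻¹` -/
def csum (g : V ≃ₗ[F] V) : Module.End F V := g.toLinearMap + g.symm.toLinearMap

theorem csum_apply (g : V ≃ₗ[F] V) (x : V) : csum g x = g x + g.symm x := rfl

/-- `g + g⁻¹ - γ` -/
def nil (g : V ≃ₗ[F] V) (γ : F) : Module.End F V := csum g - γ • LinearMap.id

theorem nil_apply (g : V ≃ₗ[F] V) (γ : F) (x : V) : nil g γ x = csum g x - γ • x := rfl

theorem csum_g (g : V ≃ₗ[F] V) (x : V) : csum g (g x) = g (csum g x) := by
  rw [csum_apply, csum_apply, map_add, LinearEquiv.symm_apply_apply, LinearEquiv.apply_symm_apply]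

theorem nil_g (g : V ≃ₗ[F] V) (γ : F) (x : V) : nil g γ (g x) = g (nil g γ x) := by
  rw [nil_apply, nil_apply, csum_g, map_sub, map_smul]

theorem g_g (g : V ≃ₗ[F] V) (γ : F) (x : V) : g (g x) = nil g γ (g x) + γ • g x - x := by
  rw [nil_apply, sub_add_cancel, csum_apply, LinearEquiv.symm_apply_apply, add_sub_cancel_right]

variable {B : LinearMap.BilinForm F V} (hB : B.IsAlt) {g : V ≃ₗ[F] V} (hg : ∀ x y, B (g x) (g y) = B x y)

theorem swap (hB : B.IsAlt) (x y : V) : B y x = -B x y := (LinearMap.IsAlt.neg hB x y).symm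

section
include hg

theorem adj_g (x y : V) : B (g x) y = B x (g.symm y) := by
  conv_lhs => rw [← g.apply_symm_apply y, hg]

theorem adj_symm (x y : V) : B (g.symm x) y = B x (g y) := by
  rw [← hg (g.symm x) y, LinearEquiv.apply_symm_apply]

theorem csum_adj (x y : V) : B (csum g x) y = B x (csum g y) := by
  rw [csum_apply, csum_apply, map_add, LinearMap.add_apply, map_add, adj_g hg, adj_symm hg, add_comm]

theorem nil_adj (γ : F) (x y : V) : B (nil g γ x) y = B x (nil g γ y) := by
  rw [nil_apply, nil_apply, map_sub, LinearMap.sub_apply, map_sub, csum_adj hg, map_smul, LinearMap.smul_apply,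
    map_smul]

theorem aeval_adj (p : F[X]) : ∀ x y, B (aeval (csum g) p x) y = B x (aeval (csum g) p y) := by
  induction p using Polynomial.induction_on with
  | C a => intro x y; simp
  | add a b ha hb => intro x y; simp [ha x y, hb x y]
  | monomial k a ih =>
    intro x y
    have e : ∀ z, aeval (csum g) (C a * X ^ (k + 1)) z = aeval (csum g) (C a * X ^ k) (csum g z) := fun z => by
      simp only [map_mul, map_pow, aeval_C, aeval_X, Module.End.mul_apply, pow_succ]
    rw [e, e, ih, csum_adj hg]
    congr 1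
    simp only [map_mul, map_pow, aeval_C, aeval_X]
    rw [← Module.End.mul_apply (csum g), ← mul_assoc,
      show csum g * algebraMap F (Module.End F V) a = algebraMap F (Module.End F V) a * csum g from
        (Algebra.commutes a _).symm, mul_assoc, ← pow_succ', pow_succ, ← mul_assoc, Module.End.mul_apply]

theorem aeval_g (p : F[X]) : ∀ x, aeval (csum g) p (g x) = g (aeval (csum g) p x) := by
  induction p using Polynomial.induction_on with
  | C a => intro x; simp
  | add a b ha hb => intro x; simp [ha x, hb x]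
  | monomial k a ih =>
    intro x
    have e : ∀ z, aeval (csum g) (C a * X ^ (k + 1)) z = aeval (csum g) (C a * X ^ k) (csum g z) := fun z => by
      simp only [map_mul, map_pow, aeval_C, aeval_X, Module.End.mul_apply, pow_succ]
    rw [e, e, csum_g, ih]

end

variable (h3 : (3 : F) = 0)

section
include h3

theorem two_ne_zero3 : (2 : F) ≠ 0 := fun h => one_ne_zero (α := F) (by linear_combination h3 - h)

theorem self_zero (hB : B.IsAlt) {m : Module.End F V} (hm : ∀ x y, B (m x) y = B x (m y)) (x : V) :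
    B x (m x) = 0 := by
  have h1 : B x (m x) = -B x (m x) := by conv_lhs => rw [← hm, swap hB]
  exact (mul_eq_zero.1 (show (2 : F) * B x (m x) = 0 by linear_combination h1)).resolve_left (two_ne_zero3 h3)

include hB hg

theorem aeval_self (p : F[X]) (x : V) : B x (aeval (csum g) p x) = 0 := self_zero h3 hB (aeval_adj hg p) x

theorem aeval_TI (p p' : F[X]) (x : V) : B (aeval (csum g) p x) (aeval (csum g) p' x) = 0 := by
  rw [aeval_adj hg, ← Module.End.mul_apply, ← map_mul, aeval_self hB hg h3]

variable (hnd : B.Nondegenerate) (hdim : finrank F V = 6)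

include hnd hdim

theorem exists_ann (v : V) : ∃ p : F[X], p ≠ 0 ∧ p.natDegree ≤ 3 ∧ aeval (csum g) p v = 0 := by
  haveI : FiniteDimensional F V := Module.finite_of_finrank_pos (by omega)
  let L : degreeLT F 4 →ₗ[F] V :=
    ((LinearMap.applyₗ v).comp (aeval (R := F) (csum g)).toLinearMap).comp (degreeLT F 4).subtype
  have hL : ∀ p, L p = aeval (csum g) (p : F[X]) v := fun p => rfl
  have hTI : LinearMap.range L ≤ B.orthogonal (LinearMap.range L) := by
    rintro _ ⟨p, rfl⟩
    rw [LinearMap.BilinForm.mem_orthogonal_iff]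
    rintro _ ⟨p', rfl⟩
    exact aeval_TI hB hg h3 _ _ v
  have h1 := Submodule.finrank_mono hTI
  rw [LinearMap.BilinForm.finrank_orthogonal hnd, hdim] at h1
  have hfin : finrank F (degreeLT F 4) = 4 := by
    rw [(degreeLTEquiv F 4).finrank_eq, Module.finrank_fintype_fun_eq_card, Fintype.card_fin]
  haveI : FiniteDimensional F (degreeLT F 4) := Module.finite_of_finrank_pos (by omega)
  obtain ⟨p, hp, hp0⟩ := Submodule.exists_mem_ne_zero_of_ne_bot (p := LinearMap.ker L) fun h => by
    have h2 := LinearMap.finrank_range_of_inj (LinearMap.ker_eq_bot.1 h)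
    omega
  have hne : (p : F[X]) ≠ 0 := fun e => hp0 (Subtype.ext e)
  have hdeg := Polynomial.mem_degreeLT.1 p.2
  rw [← natDegree_lt_iff_degree_lt hne] at hdeg
  exact ⟨p, hne, by omega, by rw [← hL]; exact hp⟩

theorem exists_factor : ∃ f : F[X], Irreducible f ∧ f.Monic ∧ f.natDegree ≤ 3 ∧
    ∃ w : V, w ≠ 0 ∧ aeval (csum g) f w = 0 := by
  classical
  haveI : Nontrivial V := Module.nontrivial_of_finrank_pos (R := F) (by omega)
  obtain ⟨v, hv⟩ := exists_ne (0 : V)
  have hex : ∃ d, ∃ p : F[X], p ≠ 0 ∧ p.natDegree = d ∧ d ≤ 3 ∧ aeval (csum g) p v = 0 := by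
    obtain ⟨p, h1, h2, h3'⟩ := exists_ann hB hg h3 hnd hdim v
    exact ⟨_, p, h1, rfl, h2, h3'⟩
  obtain ⟨p, hp0, hpd, hd3, hpv⟩ := Nat.find_spec hex
  have hdpos : 0 < p.natDegree := Nat.pos_of_ne_zero fun h => by
    rw [eq_C_of_natDegree_eq_zero h, aeval_C, Module.algebraMap_end_apply] at hpv
    refine hp0 ?_
    rw [eq_C_of_natDegree_eq_zero h, (smul_eq_zero.1 hpv).resolve_right hv, C_0]
  obtain ⟨f, hfm, hfi, r, hr⟩ := Polynomial.exists_monic_irreducible_factor p
    (fun hu => by rw [natDegree_eq_zero_of_isUnit hu] at hdpos; omega)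
  have hr0 : r ≠ 0 := fun e => hp0 (by rw [hr, e, mul_zero])
  have hdeg : p.natDegree = f.natDegree + r.natDegree := by rw [hr, natDegree_mul hfi.ne_zero hr0]
  refine ⟨f, hfi, hfm, by omega, aeval (csum g) r v, fun h => ?_, ?_⟩
  · have := Nat.find_min' hex ⟨r, hr0, rfl, by omega, h⟩
    have := hfi.natDegree_pos
    omega
  · rw [← Module.End.mul_apply, ← map_mul, ← hr, hpv]

theorem pow_ann {f : F[X]} (hf : Irreducible f) {N : ℕ} {v : V} (hv : aeval (csum g) (f ^ N) v = 0) :
    ∃ j, j * f.natDegree ≤ 3 ∧ aeval (csum g) (f ^ j) v = 0 := by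
  classical
  obtain ⟨p, hp0, hp3, hpv⟩ := exists_ann hB hg h3 hnd hdim v
  obtain ⟨j, -, hj⟩ := (dvd_prime_pow hf.prime N).1 (EuclideanDomain.gcd_dvd_left (f ^ N) p)
  refine ⟨j, ?_, ?_⟩
  · rw [← natDegree_pow]
    exact (natDegree_le_of_dvd (hj.symm.dvd.trans (EuclideanDomain.gcd_dvd_right _ _)) hp0).trans hp3
  · obtain ⟨w, hw⟩ := hj.dvd
    rw [hw, mul_comm, map_mul, Module.End.mul_apply, EuclideanDomain.gcd_eq_gcd_ab, map_add, LinearMap.add_apply,
      mul_comm (f ^ N), mul_comm p, map_mul, map_mul, Module.End.mul_apply, Module.End.mul_apply, hv, hpv]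
    simp

theorem primary {f : F[X]} (hf : Irreducible f) {w : V} (hw : w ≠ 0) (hfw : aeval (csum g) f w = 0)
    (hno : ¬ HasSplit B g) (v : V) : ∃ j, j * f.natDegree ≤ 3 ∧ aeval (csum g) (f ^ j) v = 0 := by
  haveI : FiniteDimensional F V := Module.finite_of_finrank_pos (by omega)
  let P := aeval (csum g) (f ^ 3)
  have hker : ∀ x, P (P x) = 0 → P x = 0 := fun x hx => by
    rw [← Module.End.mul_apply, ← map_mul, ← pow_add] at hx
    obtain ⟨j, hj, hjx⟩ := pow_ann hB hg h3 hnd hdim hf hx
    have := hf.natDegree_pos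
    have hj3 : j ≤ 3 := (Nat.le_mul_of_pos_right j this).trans hj
    show aeval (csum g) (f ^ 3) x = 0
    rw [← Nat.sub_add_cancel hj3, pow_add, map_mul, Module.End.mul_apply, hjx, map_zero]
  by_cases htop : ∀ x, P x = 0
  · exact pow_ann hB hg h3 hnd hdim hf (htop v)
  refine absurd ⟨LinearMap.ker P, ?_, ?_, fun x hx => ?_, ?_⟩ hno
  · intro h
    have : w ∈ LinearMap.ker P := by
      rw [LinearMap.mem_ker]
      show aeval (csum g) (f ^ 3) w = 0
      rw [pow_succ, map_mul, Module.End.mul_apply, hfw, map_zero]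
    rw [h, Submodule.mem_bot] at this
    exact hw this
  · intro h
    exact htop fun x => LinearMap.mem_ker.1 (h ▸ Submodule.mem_top)
  · rw [LinearMap.mem_ker] at hx ⊢
    show aeval (csum g) (f ^ 3) (g x) = 0
    rw [aeval_g hg, show aeval (csum g) (f ^ 3) x = 0 from hx, map_zero]
  · have hd : Disjoint (LinearMap.ker P) (LinearMap.range P) := by
      rw [Submodule.disjoint_def]
      rintro _ hx ⟨y, rfl⟩
      exact hker y hx
    have hsup : LinearMap.ker P ⊔ LinearMap.range P = ⊤ := by
      refine Submodule.eq_top_of_disjoint _ _ ?_ hd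
      rw [add_comm, LinearMap.finrank_range_add_finrank_ker]
    rw [Submodule.disjoint_def]
    intro x hx hxo
    rw [LinearMap.BilinForm.mem_orthogonal_iff] at hxo
    refine hnd.2 x fun y => ?_
    obtain ⟨a, ha, _, ⟨b, rfl⟩, rfl⟩ := Submodule.mem_sup.1 (show y ∈ LinearMap.ker P ⊔ LinearMap.range P by
      rw [hsup]; trivial)
    rw [map_add, LinearMap.add_apply, show B a x = 0 from hxo a ha, zero_add,
      show B (P b) x = B b (P x) from aeval_adj hg _ b x, LinearMap.mem_ker.1 hx, map_zero]

end

/-- a non-degenerate invariant plane -/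
theorem split_pair (hdim : finrank F V = 6) (hB : B.IsAlt) {x y : V} (hxy : B x y ≠ 0)
    (hx : g x ∈ Submodule.span F {x, y}) (hy : g y ∈ Submodule.span F {x, y}) : HasSplit B g := by
  classical
  refine ⟨Submodule.span F {x, y}, fun h => ?_, fun h => ?_, fun z hz => ?_, ?_⟩
  · have : x = 0 := by
      have hm := Submodule.subset_span (R := F) (Set.mem_insert x {y})
      rwa [h, SetLike.mem_coe, Submodule.mem_bot] at hm
    exact hxy (by rw [this]; simp)
  · have h1 := finrank_span_finset_le_card (R := F) ({x, y} : Finset V)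
    rw [Finset.coe_pair, Set.finrank, h, finrank_top, hdim] at h1
    exact absurd (h1.trans Finset.card_le_two) (by norm_num)
  · obtain ⟨a, b, rfl⟩ := Submodule.mem_span_pair.1 hz
    rw [map_add, map_smul, map_smul]
    exact add_mem (Submodule.smul_mem _ a hx) (Submodule.smul_mem _ b hy)
  · rw [Submodule.disjoint_def]
    intro z hz hzo
    rw [LinearMap.BilinForm.mem_orthogonal_iff] at hzo
    obtain ⟨a, b, rfl⟩ := Submodule.mem_span_pair.1 hz
    have e1 : B x (a • x + b • y) = 0 := hzo x (Submodule.subset_span (Set.mem_insert x _))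
    have e2 : B y (a • x + b • y) = 0 := hzo y (Submodule.subset_span (Set.mem_insert_of_mem x rfl))
    simp only [map_add, map_smul, smul_eq_mul, hB x, hB y, swap hB x y, mul_zero, zero_add, add_zero] at e1 e2
    rw [(mul_eq_zero.1 e1).resolve_right hxy, (mul_eq_zero.1 e2).resolve_right (neg_ne_zero.2 hxy)]
    simp

section
include hB hg h3

/-- if the top layer carries no form, `g` is a scalar on it -/
theorem scalar_on_top (hnd : B.Nondegenerate) {m : Module.End F V} {γ : F}
    (hadj : ∀ x y, B (m x) y = B x (m y)) (hcomm : ∀ x, m (g x) = g (m x))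
    (hc : ∀ x, csum g (m x) = γ • m x) (hzero : ∀ v, B v (g (m v)) = 0) :
    (∀ w, g (m w) = (-γ) • m w) ∧ (∀ w, m w ≠ 0 → γ * γ = 1) := by
  have key : ∀ w, g (m w) = g.symm (m w) := fun w => sub_eq_zero.1 <| hnd.2 _ fun v => by
    have h := hzero (v + w)
    simp only [map_add, LinearMap.add_apply, hzero, add_zero, zero_add] at h
    have h' : B w (g (m v)) = -B v (g.symm (m w)) := by
      rw [swap hB (g (m v)), adj_g hg, hadj]
      congr 2
      apply g.injective
      rw [← hcomm, LinearEquiv.apply_symm_apply, LinearEquiv.apply_symm_apply]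
    rw [h'] at h
    rw [map_sub]
    linear_combination h
  have h1 : ∀ w, g (m w) = (-γ) • m w := fun w => by
    have h := hc w
    rw [csum_apply, ← key w, ← two_smul F] at h
    have h2 := congrArg (fun z => (-1 : F) • z) h
    simp only [smul_smul] at h2
    rw [show (-1 : F) * 2 = 1 by linear_combination -h3, one_smul, neg_one_mul] at h2
    exact h2
  refine ⟨h1, fun w hw => ?_⟩
  have h := key w
  rw [h1, eq_comm, LinearEquiv.symm_apply_eq, map_smul, h1, smul_smul, eq_comm, ← sub_eq_zero] at h
  nth_rw 2 [← one_smul F (m w)] at h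
  rw [← sub_smul] at h
  have := (smul_eq_zero.1 h).resolve_right hw
  linear_combination this

/-- the normal form with a cyclic vector -/
theorem normal_cyclic (γ : F) (hn : ∀ x, nil g γ (nil g γ (nil g γ x)) = 0) {v : V} {δ : F}
    (hv : B v (nil g γ (nil g γ (g v))) = δ) (hδ : δ ≠ 0) :
    ∃ L : (Fin 6 → F) →ₗ[F] V,
      (∀ a b, B (L a) (L b) = δ * (a 0 * b 5 + a 1 * b 4 + a 2 * b 3 - a 3 * b 2 - a 4 * b 1 - a 5 * b 0)) ∧
      ∀ a, g (L a) = L ![-a 3, -a 4, -a 5, a 0 + γ * a 3, a 1 + γ * a 4 + a 3, a 2 + γ * a 5 + a 4] := by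
  set n := nil g γ with hndef
  have hadj : ∀ x y, B (n x) y = B x (n y) := nil_adj hg γ
  have hcomm : ∀ x, n (g x) = g (n x) := nil_g g γ
  have hself : ∀ x, B x x = 0 := hB
  have hself1 : ∀ x, B x (n x) = 0 := fun x => self_zero h3 hB hadj x
  set J1 := B v (n (g v)) with hJ1
  set J0 := B v (g v) with hJ0
  set t := J1 / δ with ht
  set t' := (J0 - t * J1 + t * t * δ) / δ with ht'
  have e1 : t * δ = J1 := div_mul_cancel₀ _ hδ
  have e2 : t' * δ = J0 - t * J1 + t * t * δ := div_mul_cancel₀ _ hδ
  set w := v + t • n v + t' • n (n v) with hw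
  have hgn : ∀ x, g (n x) = n (g x) := fun x => (hcomm x).symm
  have w2 : B w (n (n (g w))) = δ := by
    simp only [hw, map_add, map_smul, LinearMap.add_apply, LinearMap.smul_apply, smul_eq_mul, hgn, hadj, hn,
      map_zero, hv]
    ring
  have w1 : B w (n (g w)) = 0 := by
    simp only [hw, map_add, map_smul, LinearMap.add_apply, LinearMap.smul_apply, smul_eq_mul, hgn, hadj, hn,
      map_zero, hv, ← hJ1]
    linear_combination (-1 : F) * e1 + (t * δ) * h3
  have w0 : B w (g w) = 0 := by
    simp only [hw, map_add, map_smul, LinearMap.add_apply, LinearMap.smul_apply, smul_eq_mul, hgn, hadj, hn,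
      map_zero, hv, ← hJ1, ← hJ0]
    linear_combination (-1 : F) * e2 + (t' * δ + t * J1) * h3
  let L : (Fin 6 → F) →ₗ[F] V :=
    { toFun := fun a => a 0 • w + a 1 • n w + a 2 • n (n w) + a 3 • g w + a 4 • n (g w) + a 5 • n (n (g w))
      map_add' := fun a b => by simp only [Pi.add_apply, add_smul]; abel
      map_smul' := fun c a => by simp only [Pi.smul_apply, smul_eq_mul, RingHom.id_apply, smul_add, smul_smul] }
  have hLapp : ∀ a, L a = a 0 • w + a 1 • n w + a 2 • n (n w) + a 3 • g w + a 4 • n (g w) + a 5 • n (n (g w)) :=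
    fun a => rfl
  have hrev : ∀ x y, B (g x) y = -B y (g x) := fun x y => swap hB y (g x)
  refine ⟨L, fun a b => ?_, fun a => ?_⟩
  · have k1 : B (g w) (n (g w)) = 0 := hself1 _
    have k2 : B w (n (n w)) = 0 := self_zero h3 hB (m := n * n) (fun x y => by
      simp only [Module.End.mul_apply, hadj]) w
    have k3 : B (g w) (n (n (g w))) = 0 := self_zero h3 hB (m := n * n) (fun x y => by
      simp only [Module.End.mul_apply, hadj]) (g w)
    have r0 : B (g w) w = 0 := by rw [hrev, w0, neg_zero]
    have r1 : B (g w) (n w) = 0 := by rw [← hadj, swap hB w, w1, neg_zero]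
    have r2 : B (g w) (n (n w)) = -δ := by rw [← hadj, ← hadj, swap hB w, w2]
    simp only [hLapp, map_add, map_smul, LinearMap.add_apply, LinearMap.smul_apply, smul_eq_mul, hadj, hn,
      map_zero, hself, hself1, k1, k2, k3, w0, w1, w2, r0, r1, r2]
    ring
  · have hgg : g (g w) = n (g w) + γ • g w - w := g_g g γ w
    simp only [hLapp, map_add, map_smul, hgn, hgg, map_sub, hn, Matrix.cons_val_zero, Matrix.cons_val_one,
      Matrix.cons_val]
    simp only [neg_smul, add_smul, mul_smul, smul_add, smul_sub, smul_comm γ, smul_zero]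
    abel

/-- the normal form of a unipotent element of index three -/
theorem normal_unipotent (ε : F) (hε : ε * ε = 1) (u : V ≃ₗ[F] V) (hu : ∀ x, g x = ε • u x)
    (hN3 : ∀ z, u (u (u z)) = z) {x y : V} (hxy : B x (u (u y) + u y + y) = 1) (hxx : B x (u (u x) + u x + x) = 0)
    (hyy : B y (u (u y) + u y + y) = 0) :
    ∃ L : (Fin 6 → F) →ₗ[F] V,
      (∀ a b, B (L a) (L b) = a 0 * b 5 - a 5 * b 0 + a 1 * b 3 - a 3 * b 1 - a 1 * b 4 + a 4 * b 1 +
        a 2 * b 3 - a 3 * b 2) ∧
      ∀ a, g (L a) = L ![ε * a 0, ε * (a 1 + a 0), ε * (a 2 + a 1), ε * a 3, ε * (a 4 + a 3), ε * (a 5 + a 4)] := by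
  have hiso : ∀ a b, B (u a) (u b) = B a b := fun a b => by
    have h := hg a b
    simp only [hu, map_smul, LinearMap.smul_apply, smul_eq_mul] at h
    linear_combination h - (B (u a) (u b)) * hε
  let N : Module.End F V := u.toLinearMap - LinearMap.id
  have hN : ∀ z, N z = u z - z := fun z => rfl
  have h3' : ∀ z : V, z + z + z = 0 := fun z => by
    have : (3 : F) • z = 0 := by rw [h3, zero_smul]
    rwa [show (3 : F) = 1 + 1 + 1 by norm_num, add_smul, add_smul, one_smul] at this
  have hNN : ∀ z, N (N z) = u (u z) + u z + z := fun z => by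
    have := h3' (u z)
    simp only [hN, map_sub]
    rw [← sub_eq_zero]
    conv_rhs => rw [← neg_zero, ← this]
    abel
  have hN3' : ∀ z, N (N (N z)) = 0 := fun z => by
    rw [hNN, hN, map_sub, map_sub, hN3]
    abel
  have hrel : ∀ a b, B (N a) (N b) + B (N a) b + B a (N b) = 0 := fun a b => by
    simp only [hN, map_sub, LinearMap.sub_apply, hiso]
    ring
  have hmove : ∀ a b, B (N a) b = -B a (N b) + B a (N (N b)) := fun a b => by
    have h1 := hrel a b
    have h2 := hrel a (N b)
    have h4 := hrel a (N (N b))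
    rw [hN3', map_zero, map_zero] at h4
    linear_combination h1 - h2 + h4
  rw [← hNN] at hxy hxx hyy
  have hself : ∀ a, B a a = 0 := hB
  have hrev : ∀ a b, B (N a) b = -B b (N a) := fun a b => swap hB b (N a)
  have hyx : B y (N (N x)) = -1 := by
    have e := hrev (N x) y
    simp only [hmove, hN3', map_zero, add_zero, neg_neg, neg_zero] at e
    linear_combination e - hxy
  set x1 := x + B x (N x) • N y with hx1
  set y1 := y - B y (N y) • N x with hy1
  have a12 : B x1 (N (N y1)) = 1 := by
    simp only [hx1, hy1, map_add, map_sub, map_smul, LinearMap.add_apply, LinearMap.sub_apply, LinearMap.smul_apply,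
      smul_eq_mul, hmove, hN3', map_zero, hxy]
    ring
  have a11 : B x1 (N (N x1)) = 0 := by
    simp only [hx1, map_add, map_smul, LinearMap.add_apply, LinearMap.smul_apply,
      smul_eq_mul, hmove, hN3', map_zero, hxx]
    ring
  have a22 : B y1 (N (N y1)) = 0 := by
    simp only [hy1, map_sub, map_smul, LinearMap.sub_apply, LinearMap.smul_apply,
      smul_eq_mul, hmove, hN3', map_zero, hyy]
    ring
  have a21 : B y1 (N (N x1)) = -1 := by
    simp only [hx1, hy1, map_add, map_sub, map_smul, LinearMap.add_apply, LinearMap.sub_apply, LinearMap.smul_apply,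
      smul_eq_mul, hmove, hN3', map_zero, hyx]
    ring
  have b11 : B x1 (N x1) = 0 := by
    simp only [hx1, map_add, map_smul, LinearMap.add_apply, LinearMap.smul_apply,
      smul_eq_mul, hmove, hN3', map_zero, hxy, hyx, hxx, hyy]
    linear_combination (B x (N x)) * h3
  have b22 : B y1 (N y1) = 0 := by
    simp only [hy1, map_sub, map_smul, LinearMap.sub_apply, LinearMap.smul_apply,
      smul_eq_mul, hmove, hN3', map_zero, hxy, hyx, hxx, hyy]
    first
      | linear_combination (B y (N y)) * h3
      | linear_combination (-B y (N y)) * h3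
      | ring
  set x2 := x1 + B x1 (N y1) • N x1 with hx2
  have c12 : B x2 (N y1) = 0 := by
    simp only [hx2, map_add, map_smul, LinearMap.add_apply, LinearMap.smul_apply,
      smul_eq_mul, hmove, hN3', map_zero, a12, a11]
    ring
  have c11 : B x2 (N x2) = 0 := by
    simp only [hx2, map_add, map_smul, LinearMap.add_apply, LinearMap.smul_apply,
      smul_eq_mul, hmove, hN3', map_zero, a11, b11]
    ring
  have d12 : B x2 (N (N y1)) = 1 := by
    simp only [hx2, map_add, map_smul, LinearMap.add_apply, LinearMap.smul_apply,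
      smul_eq_mul, hmove, hN3', map_zero, a12]
    ring
  have d11 : B x2 (N (N x2)) = 0 := by
    simp only [hx2, map_add, map_smul, LinearMap.add_apply, LinearMap.smul_apply,
      smul_eq_mul, hmove, hN3', map_zero, a11]
    ring
  have d21 : B y1 (N (N x2)) = -1 := by
    simp only [hx2, map_add, map_smul, smul_eq_mul, hN3', map_zero, a21]
    ring
  set x3 := x2 - B x2 y1 • N (N x2) with hx3
  have f12 : B x3 y1 = 0 := by
    simp only [hx3, map_sub, map_smul, LinearMap.sub_apply, LinearMap.smul_apply, smul_eq_mul, hmove, hN3',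
      map_zero, c12, d12]
    ring
  have g12 : B x3 (N y1) = 0 := by
    simp only [hx3, map_sub, map_smul, LinearMap.sub_apply, LinearMap.smul_apply, smul_eq_mul, hmove, hN3',
      map_zero, c12]
    ring
  have g11 : B x3 (N x3) = 0 := by
    simp only [hx3, map_sub, map_smul, LinearMap.sub_apply, LinearMap.smul_apply, smul_eq_mul, hmove, hN3',
      map_zero, c11]
    ring
  have h12 : B x3 (N (N y1)) = 1 := by
    simp only [hx3, map_sub, map_smul, LinearMap.sub_apply, LinearMap.smul_apply, smul_eq_mul, hmove, hN3',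
      map_zero, d12]
    ring
  have h11 : B x3 (N (N x3)) = 0 := by
    simp only [hx3, map_sub, map_smul, LinearMap.sub_apply, LinearMap.smul_apply, smul_eq_mul, hmove, hN3',
      map_zero, d11]
    ring
  have h21 : B y1 (N (N x3)) = -1 := by
    simp only [hx3, map_sub, map_smul, smul_eq_mul, hN3', map_zero, d21]
    ring
  have f21 : B y1 x3 = 0 := by rw [swap hB x3, f12, neg_zero]
  have g21 : B y1 (N x3) = -1 := by
    have e := hmove x3 y1
    rw [hrev, g12, h12] at e
    linear_combination -e
  let L : (Fin 6 → F) →ₗ[F] V :=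
    { toFun := fun a => a 0 • x3 + a 1 • N x3 + a 2 • N (N x3) + a 3 • y1 + a 4 • N y1 + a 5 • N (N y1)
      map_add' := fun a b => by simp only [Pi.add_apply, add_smul]; abel
      map_smul' := fun c a => by simp only [Pi.smul_apply, smul_eq_mul, RingHom.id_apply, smul_add, smul_smul] }
  have hLapp : ∀ a, L a = a 0 • x3 + a 1 • N x3 + a 2 • N (N x3) + a 3 • y1 + a 4 • N y1 + a 5 • N (N y1) :=
    fun a => rfl
  refine ⟨L, fun a b => ?_, fun a => ?_⟩
  · simp only [hLapp, map_add, map_smul, LinearMap.add_apply, LinearMap.smul_apply, smul_eq_mul, hmove, hN3',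
      map_zero, hself, f12, f21, g11, b22, g12, g21, h11, a22, h12, h21]
    ring
  · have hu' : ∀ z, u z = z + N z := fun z => by rw [hN, add_sub_cancel]
    simp only [hu, hLapp, map_add, map_smul, hu', hN3', Matrix.cons_val_zero, Matrix.cons_val_one,
      Matrix.cons_val]
    simp only [add_smul, mul_smul, smul_add, smul_comm ε, smul_zero, map_zero, add_zero]
    abel

end

end Cfsg.Agent.Classical.NormalCover.Indec
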