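import Mathlib
import Cfsg.Agent.Lib.Classical.NormalCover.SympIndec

/-!
# The field models of the indecomposable isometries
-/

set_option autoImplicit false
set_option linter.unusedSectionVars false

namespace Cfsg.Agent.Classical.NormalCover.SixModel

open Module Cfsg.Agent.Classical.NormalCover.Indec

variable {F : Type*} [Field F] {E : Type*} [Field E] [Algebra F E]

/-- the alternating trace form on the pairs -/
noncomputable def formP (F E : Type*) [Field F] [Field E] [Algebra F E] : LinearMap.BilinForm F (E × E) :=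
  LinearMap.mk₂ F (fun x y => Algebra.trace F E (x.1 * y.2 - x.2 * y.1))
    (fun a b c => by rw [← map_add]; congr 1; simp only [Prod.fst_add, Prod.snd_add]; ring)
    (fun r a b => by
      rw [← map_smul]; congr 1; simp only [Prod.smul_fst, Prod.smul_snd]; simp only [Algebra.smul_def]; ring)
    (fun a b c => by rw [← map_add]; congr 1; simp only [Prod.fst_add, Prod.snd_add]; ring)
    (fun r a b => by
      rw [← map_smul]; congr 1; simp only [Prod.smul_fst, Prod.smul_snd]; simp only [Algebra.smul_def]; ring)

theorem formP_apply (x y : E × E) : formP F E x y = Algebra.trace F E (x.1 * y.2 - x.2 * y.1) := rfl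

theorem formP_isAlt : (formP F E).IsAlt := fun x => by
  show formP F E x x = 0
  rw [formP_apply, mul_comm, sub_self, map_zero]

/-- the element preserves a field structure -/
def InField {V : Type*} [AddCommGroup V] [Module F V] (E : Type*) [Field E] [Algebra F E]
    (B : LinearMap.BilinForm F V) (g : V ≃ₗ[F] V) : Prop :=
  ∃ Φ : (E × E) ≃ₗ[F] V, (∀ x y, B (Φ x) (Φ y) = formP F E x y) ∧
    ∃ τ : E ≃ₐ[F] E, ∀ (e : E) (z : E × E), Φ.symm (g (Φ (e • z))) = τ e • Φ.symm (g (Φ z))

variable [Fintype F] [Finite E] (hE : finrank F E = 3)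

/-- the Frobenius map of the cubic extension -/
noncomputable def frobE (F E : Type*) [Field F] [Fintype F] [Field E] [Algebra F E] [Finite E] : E ≃ₐ[F] E :=
  FiniteField.frobeniusAlgEquivOfAlgebraic F E

include hE

theorem formP_nondeg : (formP F E).Nondegenerate := by
  haveI : FiniteDimensional F E := Module.Finite.of_finite
  refine (LinearMap.IsAlt.isRefl (formP_isAlt (F := F) (E := E))).nondegenerate_iff_separatingLeft.2 fun x hx => ?_
  refine Prod.ext ((traceForm_nondegenerate F E).1 _ fun w => ?_) ((traceForm_nondegenerate F E).1 _ fun w => ?_)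
  · have h := hx (0, w)
    rw [formP_apply, mul_zero, sub_zero] at h
    rwa [Algebra.traceForm_apply]
  · have h := hx (w, 0)
    rw [formP_apply, mul_zero, zero_sub, map_neg, neg_eq_zero] at h
    rwa [Algebra.traceForm_apply]

theorem finrank_pairs : finrank F (E × E) = 6 := by
  haveI : FiniteDimensional F E := Module.Finite.of_finite
  rw [Module.finrank_prod, hE]

theorem frobE_three (x : E) : frobE F E (frobE F E (frobE F E x)) = x := by
  haveI : FiniteDimensional F E := Module.Finite.of_finite
  have h := pow_orderOf_eq_one (frobE F E)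
  rw [show orderOf (frobE F E) = 3 by
    rw [frobE, FiniteField.orderOf_frobeniusAlgEquivOfAlgebraic, hE], pow_succ, pow_two] at h
  exact DFunLike.congr_fun h x

theorem sum_frobE (x : E) :
    x + frobE F E x + frobE F E (frobE F E x) = algebraMap F E (Algebra.trace F E x) := by
  rw [FiniteField.algebraMap_trace_eq_sum_pow, hE, Nat.card_eq_fintype_card, Finset.sum_range_succ,
    Finset.sum_range_succ, Finset.sum_range_one]
  simp only [frobE, FiniteField.coe_frobeniusAlgEquivOfAlgebraic, ← pow_mul, pow_zero, pow_one, pow_two]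

omit hE in
theorem trace_frobE (x : E) : Algebra.trace F E (frobE F E x) = Algebra.trace F E x :=
  Algebra.trace_eq_of_algEquiv _ x

/-- a semilinear isometry as a linear equivalence -/
theorem exists_equiv (T : Module.End F (E × E)) (hT : ∀ x y, formP F E (T x) (T y) = formP F E x y) :
    ∃ g : (E × E) ≃ₗ[F] (E × E), (∀ x, g x = T x) ∧ ∀ x y, formP F E (g x) (g y) = formP F E x y := by
  haveI : FiniteDimensional F E := Module.Finite.of_finite
  have hinj : Function.Injective T := fun a b hab => sub_eq_zero.1 <| (formP_nondeg hE).1 _ fun y => by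
    rw [← hT, map_sub, hab, sub_self, map_zero, LinearMap.zero_apply]
  exact ⟨LinearEquiv.ofInjectiveEndo T hinj, fun x => rfl, fun x y => hT x y⟩

/-- Two frames with the same matrices give a field structure. -/
theorem inField_of_frames {V : Type*} [AddCommGroup V] [Module F V] {B : LinearMap.BilinForm F V}
    (hdim : finrank F V = 6) {g : V ≃ₗ[F] V} (T : (E × E) ≃ₗ[F] (E × E))
    (hT : ∃ τ : E ≃ₐ[F] E, ∀ (e : E) (z : E × E), T (e • z) = τ e • T z)
    (Q : (Fin 6 → F) → (Fin 6 → F) → F) (hQ : ∀ a, (∀ b, Q a b = 0) → a = 0)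
    (A : (Fin 6 → F) → (Fin 6 → F)) (L : (Fin 6 → F) →ₗ[F] V) (L' : (Fin 6 → F) →ₗ[F] E × E)
    (hL : ∀ a b, B (L a) (L b) = Q a b) (hgL : ∀ a, g (L a) = L (A a))
    (hL' : ∀ a b, formP F E (L' a) (L' b) = Q a b) (hgL' : ∀ a, T (L' a) = L' (A a)) : InField E B g := by
  haveI : FiniteDimensional F E := Module.Finite.of_finite
  haveI : FiniteDimensional F V := Module.finite_of_finrank_pos (by omega)
  have i1 : Function.Injective L := (injective_iff_map_eq_zero _).2 fun a ha => hQ a fun b => by
    rw [← hL, ha, map_zero, LinearMap.zero_apply]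
  have i2 : Function.Injective L' := (injective_iff_map_eq_zero _).2 fun a ha => hQ a fun b => by
    rw [← hL', ha, map_zero, LinearMap.zero_apply]
  let e1 := LinearMap.linearEquivOfInjective L i1
    (by rw [Module.finrank_fintype_fun_eq_card, Fintype.card_fin, hdim])
  let e2 := LinearMap.linearEquivOfInjective L' i2
    (by rw [Module.finrank_fintype_fun_eq_card, Fintype.card_fin, finrank_pairs hE])
  have he1 : ∀ a, e1 a = L a := fun a => LinearMap.linearEquivOfInjective_apply ..
  have he2 : ∀ a, e2 a = L' a := fun a => LinearMap.linearEquivOfInjective_apply ..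
  refine ⟨e2.symm.trans e1, fun x y => ?_, ?_⟩
  · rw [LinearEquiv.trans_apply, LinearEquiv.trans_apply, he1, he1, hL, ← hL', ← he2, ← he2,
      LinearEquiv.apply_symm_apply, LinearEquiv.apply_symm_apply]
  · obtain ⟨τ, hτ⟩ := hT
    have key : ∀ z, (e2.symm.trans e1).symm (g ((e2.symm.trans e1) z)) = T z := fun z => by
      rw [LinearEquiv.symm_apply_eq, LinearEquiv.trans_apply, LinearEquiv.trans_apply, he1, hgL]
      conv_rhs => rw [← e2.apply_symm_apply z, he2, hgL', ← he2, LinearEquiv.symm_apply_apply, he1]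
    exact ⟨τ, fun e z => by rw [key, key, hτ]⟩

variable (h3 : (3 : F) = 0)

include h3

omit hE in
/-- the nilpotency from the cube -/
theorem nil_cube {V : Type*} [AddCommGroup V] [Module F V] (g : V ≃ₗ[F] V) (γ : F)
    (h : ∀ x, g (g (g (g (g (g x))))) - γ ^ 3 • g (g (g x)) + x = 0) (x : V) :
    nil g γ (nil g γ (nil g γ x)) = 0 := by
  have h3v : ∀ z : V, (3 : F) • z = 0 := fun z => by rw [h3, zero_smul]
  have e := h (g.symm (g.symm (g.symm x)))
  simp only [LinearEquiv.apply_symm_apply] at e
  simp only [nil_apply, csum_apply, map_add, map_sub, map_smul, LinearEquiv.apply_symm_apply,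
    LinearEquiv.symm_apply_apply]
  linear_combination (norm := module) e + (1 + γ ^ 2) • h3v (g x + g.symm x) -
    γ • h3v (g (g x) + g.symm (g.symm x) + (2 : F) • x)

omit hE in
/-- the top invariant -/
theorem top_invariant {V : Type*} [AddCommGroup V] [Module F V] {B : LinearMap.BilinForm F V} (hB : B.IsAlt)
    {g : V ≃ₗ[F] V} (hg : ∀ x y, B (g x) (g y) = B x y) (γ : F) (v : V) :
    B v (nil g γ (nil g γ (g v))) =
      B v (g (g (g v))) - 2 * γ * B v (g (g v)) + (1 + γ ^ 2) * B v (g v) := by
  simp only [nil_apply, csum_apply, map_add, map_sub, map_smul, LinearEquiv.symm_apply_apply,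
    LinearEquiv.apply_symm_apply, smul_eq_mul, show B v v = 0 from hB v]
  rw [show B v (g.symm v) = -B v (g v) by rw [← adj_g hg, swap hB]]
  ring

theorem model_semisimple (γ δ : F) (hγ : γ * γ ≠ 1) (hδ : δ ≠ 0) :
    ∃ T : (E × E) ≃ₗ[F] (E × E), (∀ x y, formP F E (T x) (T y) = formP F E x y) ∧
      (∀ (e : E) (z : E × E), T (e • z) = frobE F E e • T z) ∧
      (∀ x, nil T γ (nil T γ (nil T γ x)) = 0) ∧ ∃ v, formP F E v (nil T γ (nil T γ (T v))) = δ := by
  haveI : FiniteDimensional F E := Module.Finite.of_finite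
  set r := (γ * γ - 1) / δ with hr
  have hr0 : r ≠ 0 := div_ne_zero (sub_ne_zero.2 hγ) hδ
  set s := frobE F E with hs
  set R := algebraMap F E r with hR
  set R' := algebraMap F E r⁻¹ with hR'
  set C := algebraMap F E γ with hC
  have hRR : R * R' = 1 := by rw [hR, hR', ← map_mul, mul_inv_cancel₀ hr0, map_one]
  let T₀ : Module.End F (E × E) :=
    { toFun := fun z => (C * s z.1 - R' * s z.2, R * s z.1)
      map_add' := fun a b => by
        refine Prod.ext ?_ ?_ <;> simp only [Prod.fst_add, Prod.snd_add, map_add] <;> ring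
      map_smul' := fun c a => by
        refine Prod.ext ?_ ?_ <;>
          simp only [Prod.smul_fst, Prod.smul_snd, map_smul, RingHom.id_apply] <;> simp only [Algebra.smul_def] <;> ring }
  have hT₀ : ∀ x y, formP F E (T₀ x) (T₀ y) = formP F E x y := fun x y => by
    rw [formP_apply, formP_apply, ← trace_frobE (x.1 * y.2 - x.2 * y.1)]
    congr 1
    simp only [T₀, LinearMap.coe_mk, AddHom.coe_mk, map_sub, map_mul, ← hs]
    linear_combination (s x.1 * s y.2 - s x.2 * s y.1) * hRR
  obtain ⟨T, hT, hTiso⟩ := exists_equiv hE T₀ hT₀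
  have hTapp : ∀ z : E × E, T z = (C * s z.1 - R' * s z.2, R * s z.1) := fun z => hT z
  have sC : s C = C := s.commutes _
  have sR : s R = R := s.commutes _
  have sR' : s R' = R' := s.commutes _
  have hs3 : ∀ x, s (s (s x)) = x := frobE_three hE
  have hT3 : ∀ z, T (T (T z)) = ((C * C - 1) * (C * z.1 - R' * z.2) - C * z.1, (C * C - 1) * (R * z.1) - C * z.2) := fun z => by
    simp only [hTapp, map_sub, map_mul, sC, sR, sR', hs3]
    refine Prod.ext ?_ ?_
    · linear_combination (-2 * C * z.1 + R' * z.2) * hRR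
    · linear_combination (-(R * z.1) - C * z.2) * hRR
  have h3E : (3 : E) = 0 := by rw [← map_ofNat (algebraMap F E) 3, h3, map_zero]
  refine ⟨T, hTiso, fun e z => ?_, nil_cube h3 T γ fun x => ?_, ?_⟩
  · rw [hTapp, hTapp]
    refine Prod.ext ?_ ?_ <;> simp only [Prod.smul_fst, Prod.smul_snd, smul_eq_mul, map_mul, ← hs] <;> ring
  · rw [hT3 (T (T (T x))), hT3 x]
    refine Prod.ext ?_ ?_ <;>
      simp only [Prod.fst_add, Prod.snd_add, Prod.fst_sub, Prod.snd_sub, Prod.smul_fst, Prod.smul_snd,
        Prod.fst_zero, Prod.snd_zero] <;>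
      simp only [Algebra.smul_def, map_pow, ← hC]
    · linear_combination (-((C * C - 1) ^ 2) * x.1) * hRR +
        (-(C ^ 2 * (C * C - 1) * x.1) + C * (C * C - 1) * R' * x.2 + C ^ 2 * x.1) * h3E
    · linear_combination (-((C * C - 1) ^ 2) * x.2) * hRR +
        (-(C * (C * C - 1)) * R * x.1 + C ^ 2 * x.2) * h3E
  · obtain ⟨z, hz⟩ := Algebra.trace_surjective F E 1
    refine ⟨(0, z), ?_⟩
    have k1 : Algebra.trace F E (z * (s (s z))) = Algebra.trace F E (z * s z) := by
      rw [← trace_frobE (z * s (s z)), ← hs, map_mul, hs3, mul_comm]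
    have hsum : z + s z + s (s z) = 1 := by rw [hs, sum_frobE hE, hz, map_one]
    have k2 : Algebra.trace F E (z * z) + 2 * Algebra.trace F E (z * s z) = 1 := by
      have e : Algebra.trace F E (z * (z + s z + s (s z))) = 1 := by rw [hsum, mul_one, hz]
      rw [mul_add, mul_add, map_add, map_add, k1] at e
      linear_combination e
    have tA : ∀ (c : F) (w : E), Algebra.trace F E (z * (algebraMap F E c * w)) =
        c * Algebra.trace F E (z * w) := fun c w => by
      rw [mul_left_comm, ← Algebra.smul_def, map_smul, smul_eq_mul]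
    have f0 : ∀ y : E × E, formP F E (0, z) y = -Algebra.trace F E (z * y.1) := fun y => by
      rw [formP_apply, zero_mul, zero_sub, map_neg]
    have I1 : formP F E (0, z) (T (0, z)) = r⁻¹ * Algebra.trace F E (z * s z) := by
      rw [f0, hTapp]
      simp only [map_zero, mul_zero, zero_sub, mul_neg, map_neg, neg_neg, hR', tA]
    have I2 : formP F E (0, z) (T (T (0, z))) = γ * r⁻¹ * Algebra.trace F E (z * s (s z)) := by
      rw [f0, hTapp (T _), hTapp]
      simp only [map_zero, mul_zero, zero_sub, sub_zero, mul_neg, map_neg, neg_neg, map_mul, sR']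
      simp only [hC, hR', tA]
      ring
    have I3 : formP F E (0, z) (T (T (T (0, z)))) = (γ * γ - 1) * r⁻¹ * Algebra.trace F E (z * z) := by
      rw [f0, hT3]
      simp only [mul_zero, zero_sub, sub_zero, mul_neg, neg_neg, map_neg]
      rw [show C * C - 1 = algebraMap F E (γ * γ - 1) by rw [map_sub, map_mul, map_one, ← hC], hR', tA, tA]
      ring
    rw [top_invariant h3 formP_isAlt hTiso, I1, I2, I3, k1]
    have hrd : (γ * γ - 1) * r⁻¹ = δ := by
      rw [hr, inv_div, mul_div_assoc', mul_comm, mul_div_assoc, div_self (sub_ne_zero.2 hγ), mul_one]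
    linear_combination hrd + ((γ * γ - 1) * r⁻¹) * k2 - ((γ ^ 2 - 1) * r⁻¹ * Algebra.trace F E (z * s z)) * h3

theorem model_regular (γ δ : F) (hγ : γ * γ = 1) :
    ∃ T : (E × E) ≃ₗ[F] (E × E), (∀ x y, formP F E (T x) (T y) = formP F E x y) ∧
      (∀ (e : E) (z : E × E), T (e • z) = frobE F E e • T z) ∧
      (∀ x, nil T γ (nil T γ (nil T γ x)) = 0) ∧ ∃ v, formP F E v (nil T γ (nil T γ (T v))) = δ := by
  haveI : FiniteDimensional F E := Module.Finite.of_finite
  obtain ⟨z, hz⟩ := Algebra.trace_surjective F E 1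
  set μ := γ * δ with hμ
  set s := frobE F E with hs
  set e := μ • z with he
  have hte : Algebra.trace F E e = μ := by rw [he, map_smul, hz, smul_eq_mul, mul_one]
  set C := algebraMap F E γ with hC
  have hCC : C * C = 1 := by rw [hC, ← map_mul, hγ, map_one]
  let T₀ : Module.End F (E × E) :=
    { toFun := fun x => (-(C * (s x.1 + s e * s x.2)), -(C * s x.2))
      map_add' := fun a b => by
        refine Prod.ext ?_ ?_ <;> simp only [Prod.fst_add, Prod.snd_add, map_add] <;> ring
      map_smul' := fun c a => by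
        refine Prod.ext ?_ ?_ <;>
          simp only [Prod.smul_fst, Prod.smul_snd, map_smul, RingHom.id_apply] <;> simp only [Algebra.smul_def] <;> ring }
  have hT₀ : ∀ x y, formP F E (T₀ x) (T₀ y) = formP F E x y := fun x y => by
    rw [formP_apply, formP_apply, ← trace_frobE (x.1 * y.2 - x.2 * y.1)]
    congr 1
    simp only [T₀, LinearMap.coe_mk, AddHom.coe_mk, map_sub, map_mul, ← hs]
    linear_combination (s x.1 * s y.2 - s x.2 * s y.1) * hCC
  obtain ⟨T, hT, hTiso⟩ := exists_equiv hE T₀ hT₀
  have hTapp : ∀ x : E × E, T x = (-(C * (s x.1 + s e * s x.2)), -(C * s x.2)) := fun x => hT x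
  have sC : s C = C := s.commutes _
  have hs3 : ∀ x, s (s (s x)) = x := frobE_three hE
  have hse : e + s e + s (s e) = algebraMap F E μ := by rw [hs, sum_frobE hE, hte]
  have hT3 : ∀ x, T (T (T x)) = (-(C * (x.1 + algebraMap F E μ * x.2)), -(C * x.2)) := fun x => by
    simp only [hTapp, map_neg, map_add, map_mul, sC, hs3]
    refine Prod.ext ?_ ?_
    · linear_combination (-(C * C * C) * x.2) * hse + (-(C * (x.1 + algebraMap F E μ * x.2))) * hCC
    · linear_combination (-(C * x.2)) * hCC
  have h3E : (3 : E) = 0 := by rw [← map_ofNat (algebraMap F E) 3, h3, map_zero]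
  refine ⟨T, hTiso, fun a x => ?_, nil_cube h3 T γ fun x => ?_, ⟨(0, z), ?_⟩⟩
  · rw [hTapp, hTapp]
    refine Prod.ext ?_ ?_ <;> simp only [Prod.smul_fst, Prod.smul_snd, smul_eq_mul, map_mul, ← hs] <;> ring
  · rw [hT3 (T (T (T x))), hT3 x]
    refine Prod.ext ?_ ?_ <;>
      simp only [Prod.fst_add, Prod.snd_add, Prod.fst_sub, Prod.snd_sub, Prod.smul_fst, Prod.smul_snd,
        Prod.fst_zero, Prod.snd_zero] <;>
      simp only [Algebra.smul_def, map_pow, ← hC]
    · linear_combination ((C * C + 2) * x.1 + (C * C + 3) * algebraMap F E μ * x.2) * hCC +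
        (x.1 + algebraMap F E μ * x.2) * h3E
    · linear_combination ((C * C + 2) * x.2) * hCC + x.2 * h3E
  · have tA : ∀ (c : F) (w : E), Algebra.trace F E (z * (algebraMap F E c * w)) =
        c * Algebra.trace F E (z * w) := fun c w => by
      rw [mul_left_comm, ← Algebra.smul_def, map_smul, smul_eq_mul]
    have f0 : ∀ y : E × E, formP F E (0, z) y = -Algebra.trace F E (z * y.1) := fun y => by
      rw [formP_apply, zero_mul, zero_sub, map_neg]
    have X : Algebra.trace F E (z * (s e * s z)) = Algebra.trace F E (e * (s (s z) * z)) := by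
      rw [← trace_frobE (z * (s e * s z)), ← trace_frobE (frobE F E (z * (s e * s z)))]
      simp only [map_mul, ← hs, hs3]
      congr 1; ring
    have Y1 : Algebra.trace F E (z * (s (s e) * s (s z))) = Algebra.trace F E (e * (s z * z)) := by
      rw [← trace_frobE (z * (s (s e) * s (s z)))]
      simp only [map_mul, ← hs, hs3]
      congr 1; ring
    have Y2 : Algebra.trace F E (z * (s e * s (s z))) = Algebra.trace F E (e * (s (s z) * s z)) := by
      rw [← trace_frobE (z * (s e * s (s z))), ← trace_frobE (frobE F E (z * (s e * s (s z))))]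
      simp only [map_mul, ← hs, hs3]
      congr 1; ring
    have I1 : formP F E (0, z) (T (0, z)) = γ * Algebra.trace F E (z * (s e * s z)) := by
      rw [f0, hTapp]
      simp only [map_zero, zero_add, mul_neg, map_neg, neg_neg, hC, tA]
    have I2 : formP F E (0, z) (T (T (0, z))) =
        -(Algebra.trace F E (z * (s (s e) * s (s z))) + Algebra.trace F E (z * (s e * s (s z)))) := by
      rw [f0, hTapp (T _), hTapp, ← map_add, ← mul_add]
      congr 3
      simp only [map_neg, map_add, map_mul, map_zero, zero_add, sC]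
      linear_combination (s (s e) * s (s z) + s e * s (s z)) * hCC
    have I3 : formP F E (0, z) (T (T (T (0, z)))) = γ * μ * Algebra.trace F E (z * z) := by
      rw [f0, hT3]
      simp only [zero_add, mul_neg, map_neg, neg_neg, hC, tA]
      ring
    rw [top_invariant h3 formP_isAlt hTiso, I1, I2, I3, X, Y1, Y2]
    have he2 : s (s z) * z + s z * z + s (s z) * s z = algebraMap F E (Algebra.trace F E (z * z) - 1) := by
      have a1 : z + s z + s (s z) = 1 := by rw [hs, sum_frobE hE, hz, map_one]
      have a2 : z * z + s z * s z + s (s z) * s (s z) = algebraMap F E (Algebra.trace F E (z * z)) := by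
        rw [← map_mul s, ← map_mul s, ← map_mul s]; exact sum_frobE hE (z * z)
      rw [map_sub, map_one, ← a2]
      linear_combination (-(z + s z + s (s z)) - 1) * a1 + (z * (s z) + z * s (s z) + s z * s (s z)) * h3E
    have hkey : Algebra.trace F E (e * (s (s z) * z)) + Algebra.trace F E (e * (s z * z)) +
        Algebra.trace F E (e * (s (s z) * s z)) = μ * (Algebra.trace F E (z * z) - 1) := by
      rw [← map_add, ← map_add, ← mul_add, ← mul_add, he2, mul_comm, ← Algebra.smul_def, map_smul, hte,
        smul_eq_mul, mul_comm]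
    have hd : γ * μ = δ := by rw [hμ, ← mul_assoc, hγ, one_mul]
    linear_combination hd + (2 * γ) * hkey + (γ * μ * (Algebra.trace F E (z * z) - 1)) * h3 +
      (γ * Algebra.trace F E (e * (s (s z) * z))) * hγ

end Cfsg.Agent.Classical.NormalCover.SixModel
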