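import Mathlib
import Cfsg.Agent.Lib.Classical.NormalCover.SympModels

/-!
# Indecomposable isometries of six-dimensional symplectic spaces in characteristic three
-/

set_option autoImplicit false
set_option linter.unusedSectionVars false

namespace Cfsg.Agent.Classical.NormalCover.SixCases

open Polynomial Module Cfsg.Agent.Classical.NormalCover.Indec Cfsg.Agent.Classical.NormalCover.SixModel

variable {F : Type*} [Field F] [Fintype F] {V : Type*} [AddCommGroup V] [Module F V]
  {B : LinearMap.BilinForm F V} (hB : B.IsAlt) (hnd : B.Nondegenerate) (hdim : finrank F V = 6)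
  {g : V ≃ₗ[F] V} (hg : ∀ x y, B (g x) (g y) = B x y) (h3 : (3 : F) = 0)
  {E : Type*} [Field E] [Algebra F E] [Finite E] (hE : finrank F E = 3)

include hB hnd hdim hg h3

theorem exists_one {x : V} (hx : x ≠ 0) : ∃ y, B x y = 1 := by
  obtain ⟨y, hy⟩ : ∃ y, B x y ≠ 0 := by
    by_contra hcon
    push Not at hcon
    exact hx (hnd.1 x hcon)
  exact ⟨(B x y)⁻¹ • y, by rw [map_smul, smul_eq_mul, inv_mul_cancel₀ hy]⟩

/-- no self-adjoint operator generates a quadratic field -/
theorem no_quadratic (f : F[X]) (hf : Irreducible f) (hfm : f.Monic) (hd : f.natDegree = 2)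
    (hzero : ∀ v, aeval (csum g) f v = 0) : False := by
  classical
  haveI : FiniteDimensional F V := Module.finite_of_finrank_pos (by omega)
  haveI : Nontrivial V := Module.nontrivial_of_finrank_pos (R := F) (by omega)
  set c := csum g with hc
  set f0 := f.coeff 0
  set f1 := f.coeff 1
  have hfe : f = C f0 + C f1 * X + X ^ 2 := by
    conv_lhs => rw [hfm.as_sum, hd, Finset.sum_range_succ, Finset.sum_range_one]
    simp only [pow_zero, pow_one, mul_one]
    ring
  have hcc : ∀ v, c (c v) = -(f1 • c v) - f0 • v := fun v => by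
    have h := hzero v
    rw [hfe] at h
    simp only [map_add, map_mul, map_pow, aeval_C, aeval_X, pow_two, LinearMap.add_apply, Module.End.mul_apply,
      Module.algebraMap_end_apply] at h
    rw [← sub_eq_zero]
    rw [← h]
    abel
  have hquad : ∀ a b : F, b * b + f1 * a * b + f0 * a * a = 0 → a = 0 := fun a b h => by
    by_contra ha
    have hroot : ¬ f.IsRoot (b / a) := fun hr => by
      have := (Polynomial.degree_eq_iff_natDegree_eq_of_pos one_pos).1 (Polynomial.degree_eq_one_of_irreducible_of_root hf hr)
      omega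
    refine hroot ?_
    rw [Polynomial.IsRoot, hfe]
    simp only [eval_add, eval_mul, eval_C, eval_X, eval_pow]
    field_simp
    linear_combination h
  have hadj : ∀ x y, B (c x) y = B x (c y) := csum_adj hg
  have hself : ∀ x, B x (c x) = 0 := fun x => self_zero h3 hB hadj x
  obtain ⟨x, hx⟩ := exists_ne (0 : V)
  obtain ⟨y, hy⟩ := exists_one hB hnd hdim hg h3 hx
  set k := B x (c y)
  let L : (Fin 4 → F) →ₗ[F] V :=
    { toFun := fun a => a 0 • x + a 1 • c x + a 2 • y + a 3 • c y
      map_add' := fun a b => by simp only [Pi.add_apply, add_smul]; abel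
      map_smul' := fun c a => by simp only [Pi.smul_apply, smul_eq_mul, RingHom.id_apply, smul_add, smul_smul] }
  have hLapp : ∀ a, L a = a 0 • x + a 1 • c x + a 2 • y + a 3 • c y := fun a => rfl
  have hdet : k * k + f1 * k + f0 ≠ 0 := fun h =>
    one_ne_zero (α := F) (hquad 1 k (by linear_combination h))
  have p2 : B x (c (c y)) = -(f1 * k) - f0 := by
    rw [hcc, map_sub, map_neg, map_smul, map_smul, hy, smul_eq_mul, smul_eq_mul, mul_one]
  have hpair : ∀ a, (∀ b, B (L a) (L b) = 0) → a = 0 := fun a ha => by
    have s1 : B y x = -1 := by rw [swap hB x, hy]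
    have s2 : B y (c x) = -k := by rw [← hadj, swap hB x]
    have s3 : B y (c (c x)) = -(-(f1 * k) - f0) := by rw [← hadj, ← hadj, swap hB x, p2]
    have q0 := ha ![1, 0, 0, 0]
    have q1 := ha ![0, 1, 0, 0]
    have q2 := ha ![0, 0, 1, 0]
    have q3 := ha ![0, 0, 0, 1]
    have hxx : B x (c (c x)) = 0 := by rw [hcc, map_sub, map_neg, map_smul, map_smul, hself, hB x]; simp
    have hyy : B y (c (c y)) = 0 := by rw [hcc, map_sub, map_neg, map_smul, map_smul, hself, hB y]; simp
    simp only [hLapp, map_add, map_smul, LinearMap.add_apply, LinearMap.smul_apply, smul_eq_mul, hadj, hself,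
      hB x, hB y, hy, p2, s1, s2, s3, hxx, hyy, Matrix.cons_val_zero, Matrix.cons_val_one, Matrix.cons_val,
      show B x (c y) = k from rfl, zero_mul, one_mul, add_zero, zero_add, mul_zero] at q0 q1 q2 q3
    have e3 : a 3 = 0 := by
      refine (mul_eq_zero.1 (show a 3 * (k * k + f1 * k + f0) = 0 from ?_)).resolve_right hdet
      linear_combination q1 - k * q0
    have e2 : a 2 = 0 := by rw [e3] at q0; linear_combination -q0
    have e1 : a 1 = 0 := by
      refine (mul_eq_zero.1 (show a 1 * (k * k + f1 * k + f0) = 0 from ?_)).resolve_right hdet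
      linear_combination k * q2 - q3
    have e0 : a 0 = 0 := by rw [e1] at q2; linear_combination q2
    funext i; fin_cases i <;> assumption
  have hinj : Function.Injective L := (injective_iff_map_eq_zero _).2 fun a ha => hpair a fun b => by
    rw [ha, map_zero, LinearMap.zero_apply]
  set U := LinearMap.range L with hU
  have hUd : finrank F U = 4 := by
    rw [hU, LinearMap.finrank_range_of_inj hinj, Module.finrank_fintype_fun_eq_card, Fintype.card_fin]
  have hW : finrank F (B.orthogonal U) = 2 := by
    rw [LinearMap.BilinForm.finrank_orthogonal hnd, hUd, hdim]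
  have hdisj : Disjoint U (B.orthogonal U) := by
    rw [Submodule.disjoint_def]
    rintro _ ⟨a, rfl⟩ ha
    rw [LinearMap.BilinForm.mem_orthogonal_iff] at ha
    rw [hpair a fun b => ?_, map_zero]
    rw [swap hB (L b), show B (L b) (L a) = 0 from ha (L b) ⟨b, rfl⟩, neg_zero]
  have hUc : ∀ u ∈ U, c u ∈ U := by
    rintro _ ⟨a, rfl⟩
    refine ⟨![-(f0 * a 1), a 0 - f1 * a 1, -(f0 * a 3), a 2 - f1 * a 3], ?_⟩
    simp only [hLapp, map_add, map_smul, hcc, Matrix.cons_val_zero, Matrix.cons_val_one, Matrix.cons_val]
    module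
  obtain ⟨z, hz, hz0⟩ := Submodule.exists_mem_ne_zero_of_ne_bot (p := B.orthogonal U) fun h => by
    rw [h, finrank_bot] at hW; omega
  have hcz : c z ∈ B.orthogonal U := by
    rw [LinearMap.BilinForm.mem_orthogonal_iff] at hz ⊢
    intro u hu
    show B u (c z) = 0
    rw [← hadj]
    exact hz _ (hUc u hu)
  have hind : LinearIndependent F ![(⟨z, hz⟩ : B.orthogonal U), ⟨c z, hcz⟩] :=
    (LinearIndependent.pair_iff' (fun h => hz0 (congrArg Subtype.val h))).2 fun r hr => by
      have hr' : r • z = c z := congrArg Subtype.val hr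
      have h := hcc z
      rw [← hr', map_smul, ← hr', smul_smul, smul_smul, ← sub_eq_zero] at h
      have h' : (r * r + f1 * r + f0) • z = 0 := by rw [← h]; module
      exact one_ne_zero (α := F) (hquad 1 r (by linear_combination (smul_eq_zero.1 h').resolve_right hz0))
  have hspan := hind.span_eq_top_of_card_eq_finrank (by simp [hW])
  have hsup : U ⊔ B.orthogonal U = ⊤ := by
    refine Submodule.eq_top_of_disjoint _ _ ?_ hdisj
    rw [hUd, hW, hdim]
  refine hz0 (hnd.2 z fun v => ?_)
  obtain ⟨u, hu, w, hw, rfl⟩ := Submodule.mem_sup.1 (show v ∈ U ⊔ B.orthogonal U by rw [hsup]; trivial)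
  have h1 : (⟨w, hw⟩ : B.orthogonal U) ∈ Submodule.span F (Set.range ![(⟨z, hz⟩ : B.orthogonal U), ⟨c z, hcz⟩]) := by
    rw [hspan]; trivial
  rw [Matrix.range_cons, Matrix.range_cons, Matrix.range_empty, Set.union_empty, Set.singleton_union] at h1
  obtain ⟨r, t, hrt⟩ := Submodule.mem_span_pair.1 h1
  rw [map_add, LinearMap.add_apply, show B u z = 0 from (LinearMap.BilinForm.mem_orthogonal_iff.1 hz) u hu,
    show w = r • z + t • c z from (congrArg Subtype.val hrt).symm]
  simp only [map_add, map_smul, LinearMap.add_apply, LinearMap.smul_apply, smul_eq_mul, hB z, hadj, hself]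
  ring

include hE

/-- the field case -/
theorem inField_cubic (f : F[X]) (hf : Irreducible f) (hfm : f.Monic) (hd : f.natDegree = 3)
    (hzero : ∀ v, aeval (csum g) f v = 0) : InField E B g := by
  classical
  haveI : FiniteDimensional F E := Module.Finite.of_finite
  haveI : FiniteDimensional F V := Module.finite_of_finrank_pos (by omega)
  haveI : Nontrivial V := Module.nontrivial_of_finrank_pos (R := F) (by omega)
  haveI : Fact (Irreducible f) := ⟨hf⟩
  haveI : Module.Finite F (AdjoinRoot f) := (AdjoinRoot.powerBasis hf.ne_zero).finite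
  haveI : Finite (AdjoinRoot f) := Module.finite_of_finite F
  have hA : finrank F (AdjoinRoot f) = 3 := by
    rw [(AdjoinRoot.powerBasis hf.ne_zero).finrank, AdjoinRoot.powerBasis_dim, hd]
  obtain ⟨ψ⟩ := FiniteField.nonempty_algHom_of_finrank_dvd (F := F) (K := E) (L := AdjoinRoot f) (by rw [hE, hA])
  have hlift : aeval (csum g) (minpoly F (AdjoinRoot.powerBasis hf.ne_zero).gen) = 0 := by
    rw [AdjoinRoot.powerBasis_gen, AdjoinRoot.minpoly_root hf.ne_zero, map_mul,
      show aeval (csum g) f = 0 from LinearMap.ext hzero, zero_mul]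
  let ι : E →ₐ[F] Module.End F V := ((AdjoinRoot.powerBasis hf.ne_zero).lift (csum g) hlift).comp ψ
  have hι : ∀ e, ∃ p : F[X], ι e = aeval (csum g) p := fun e => by
    obtain ⟨p, hp⟩ := AdjoinRoot.mk_surjective (ψ e)
    refine ⟨p, ?_⟩
    show (AdjoinRoot.powerBasis hf.ne_zero).lift (csum g) hlift (ψ e) = _
    rw [← hp, ← AdjoinRoot.aeval_eq, ← Polynomial.aeval_algHom_apply, ← AdjoinRoot.powerBasis_gen hf.ne_zero,
      PowerBasis.lift_gen]
  have hadj : ∀ e x y, B (ι e x) y = B x (ι e y) := fun e x y => by
    obtain ⟨p, hp⟩ := hι e; rw [hp, aeval_adj hg]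
  have hcomm : ∀ e x, ι e (g x) = g (ι e x) := fun e x => by
    obtain ⟨p, hp⟩ := hι e; rw [hp, aeval_g hg]
  have hmul : ∀ a b x, ι a (ι b x) = ι (a * b) x := fun a b x => by rw [map_mul, Module.End.mul_apply]
  obtain ⟨x, hx⟩ := exists_ne (0 : V)
  obtain ⟨y, hy⟩ := exists_one hB hnd hdim hg h3 hx
  let Lf : E →ₗ[F] F :=
    { toFun := fun z => B x (ι z y)
      map_add' := fun a b => by rw [map_add, LinearMap.add_apply, map_add]
      map_smul' := fun r a => by rw [map_smul, LinearMap.smul_apply, map_smul, RingHom.id_apply] }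
  obtain ⟨ε, hε⟩ := (LinearMap.BilinForm.toDual (Algebra.traceForm F E) (traceForm_nondegenerate F E)).surjective Lf
  have hεL : ∀ z, Algebra.trace F E (ε * z) = B x (ι z y) := fun z => by
    have := LinearMap.congr_fun hε z
    rwa [LinearMap.BilinForm.toDual_def, Algebra.traceForm_apply] at this
  have hε0 : ε ≠ 0 := fun h => by
    have := hεL 1
    rw [h, zero_mul, map_zero, map_one, Module.End.one_apply, hy] at this
    exact one_ne_zero this.symm
  set y' := ι ε⁻¹ y
  have hxy : ∀ a, B x (ι a y') = Algebra.trace F E a := fun a => by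
    rw [hmul, ← hεL, mul_left_comm, mul_inv_cancel₀ hε0, mul_one]
  have hTI : ∀ (v : V) a, B v (ι a v) = 0 := fun v a => by
    obtain ⟨p, hp⟩ := hι a; rw [hp]; exact aeval_self hB hg h3 p v
  let Φ₀ : (E × E) →ₗ[F] V :=
    { toFun := fun z => ι z.1 x + ι z.2 y'
      map_add' := fun a b => by simp only [Prod.fst_add, Prod.snd_add, map_add, LinearMap.add_apply]; abel
      map_smul' := fun r a => by
        simp only [Prod.smul_fst, Prod.smul_snd, map_smul, LinearMap.smul_apply, RingHom.id_apply, smul_add] }
  have hiso : ∀ a b, B (Φ₀ a) (Φ₀ b) = formP F E a b := fun a b => by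
    show B (ι a.1 x + ι a.2 y') (ι b.1 x + ι b.2 y') = _
    simp only [map_add, LinearMap.add_apply, hadj, hmul, hTI, add_zero, zero_add]
    rw [hxy, swap hB (ι (a.2 * b.1) x) y', hadj, hxy, formP_apply, map_sub]
    ring
  have hinj : Function.Injective Φ₀ := (injective_iff_map_eq_zero _).2 fun a ha =>
    (formP_nondeg hE).1 a fun b => by rw [← hiso, ha, map_zero, LinearMap.zero_apply]
  let Φ := LinearMap.linearEquivOfInjective Φ₀ hinj (by rw [finrank_pairs hE, hdim])
  have hΦ : ∀ z, Φ z = Φ₀ z := fun z => LinearMap.linearEquivOfInjective_apply ..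
  refine ⟨Φ, fun a b => by rw [hΦ, hΦ, hiso], AlgEquiv.refl, fun e z => ?_⟩
  have h1 : ∀ w, Φ (e • w) = ι e (Φ w) := fun w => by
    rw [hΦ, hΦ]
    show ι (e • w).1 x + ι (e • w).2 y' = ι e (ι w.1 x + ι w.2 y')
    rw [map_add, hmul e w.1 x, hmul e w.2 y', Prod.smul_fst, Prod.smul_snd, smul_eq_mul, smul_eq_mul]
  rw [h1, ← hcomm, LinearEquiv.symm_apply_eq, AlgEquiv.coe_refl, id_eq, h1, LinearEquiv.apply_symm_apply]

omit hB hnd hdim hg h3 hE in
theorem nonzero_pairing (hnd : B.Nondegenerate) {m : Module.End F V} (hm : ∃ x, m x ≠ 0) :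
    ∃ x y, B x (m y) = 1 := by
  obtain ⟨y, hy⟩ := hm
  obtain ⟨x, hx⟩ : ∃ x, B x (m y) ≠ 0 := by
    by_contra hcon
    push Not at hcon
    exact hy (hnd.2 _ hcon)
  exact ⟨(B x (m y))⁻¹ • x, y, by rw [map_smul, LinearMap.smul_apply, smul_eq_mul, inv_mul_cancel₀ hx]⟩

/-- the linear factor case -/
theorem split_or_field_linear (γ : F) (hn : ∀ x, nil g γ (nil g γ (nil g γ x)) = 0) :
    HasSplit B g ∨ InField E B g := by
  classical
  haveI : FiniteDimensional F E := Module.Finite.of_finite
  haveI : FiniteDimensional F V := Module.finite_of_finrank_pos (by omega)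
  haveI : Nontrivial V := Module.nontrivial_of_finrank_pos (R := F) (by omega)
  set n := nil g γ with hndef
  have hadj : ∀ x y, B (n x) y = B x (n y) := nil_adj hg γ
  have hcomm : ∀ x, n (g x) = g (n x) := nil_g g γ
  have hgg : ∀ x, g (g x) = n (g x) + γ • g x - x := g_g g γ
  by_cases h2 : ∀ x, n (n x) = 0
  · by_cases h1 : ∀ x, n x = 0
    · left
      by_cases hv : ∃ v, B v (g v) ≠ 0
      · obtain ⟨v, hv⟩ := hv
        refine split_pair hdim hB hv (Submodule.subset_span (Set.mem_insert_of_mem v rfl)) ?_
        rw [hgg, h1, zero_add]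
        exact Submodule.mem_span_pair.2 ⟨-1, γ, by rw [neg_one_smul]; abel⟩
      · push Not at hv
        obtain ⟨hs, -⟩ := scalar_on_top hB hg h3 hnd (m := LinearMap.id) (γ := γ) (fun x y => rfl) (fun x => rfl)
          (fun x => sub_eq_zero.1 (h1 x)) hv
        obtain ⟨x, hx⟩ := exists_ne (0 : V)
        obtain ⟨y, hy⟩ := exists_one hB hnd hdim hg h3 hx
        refine split_pair hdim hB (x := x) (y := y) (by rw [hy]; exact one_ne_zero) ?_ ?_
        · rw [show g x = (-γ) • x from hs x]
          exact Submodule.smul_mem _ _ (Submodule.subset_span (Set.mem_insert x _))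
        · rw [show g y = (-γ) • y from hs y]
          exact Submodule.smul_mem _ _ (Submodule.subset_span (Set.mem_insert_of_mem x rfl))
    · push Not at h1
      by_cases hv : ∃ v, B v (g (n v)) ≠ 0
      · left
        obtain ⟨v, hv⟩ := hv
        set δ := B v (g (n v))
        let L : (Fin 4 → F) →ₗ[F] V :=
          { toFun := fun a => a 0 • v + a 1 • g v + a 2 • n v + a 3 • g (n v)
            map_add' := fun a b => by simp only [Pi.add_apply, add_smul]; abel
            map_smul' := fun c a => by
              simp only [Pi.smul_apply, smul_eq_mul, RingHom.id_apply, smul_add, smul_smul] }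
        have hLapp : ∀ a, L a = a 0 • v + a 1 • g v + a 2 • n v + a 3 • g (n v) := fun a => rfl
        have hv0 : v ≠ 0 := fun h => hv (by simp [δ, h])
        refine ⟨LinearMap.range L, fun h => ?_, fun h => ?_, ?_, ?_⟩
        · have : L ![1, 0, 0, 0] = 0 := by
            rw [← Submodule.mem_bot F, ← h]; exact ⟨_, rfl⟩
          rw [hLapp] at this
          simp at this
          exact hv0 this
        · have h4 := L.finrank_range_le
          rw [h, finrank_top, hdim, Module.finrank_fintype_fun_eq_card, Fintype.card_fin] at h4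
          omega
        · rintro _ ⟨a, rfl⟩
          refine ⟨![-a 1, a 0 + γ * a 1, -a 3, a 2 + γ * a 3 + a 1], ?_⟩
          simp only [hLapp, map_add, map_smul, hgg, hcomm, h2, map_zero, Matrix.cons_val_zero, Matrix.cons_val_one,
            Matrix.cons_val, zero_add]
          module
        · rw [Submodule.disjoint_def]
          rintro _ ⟨a, rfl⟩ ha
          rw [LinearMap.BilinForm.mem_orthogonal_iff] at ha
          have hself1 : ∀ w, B w (n w) = 0 := fun w => self_zero h3 hB hadj w
          have r1 : B (g v) (n v) = -δ := by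
            rw [swap hB (n v), hadj, hcomm]
          have r2 : B (g v) (g (n v)) = 0 := by rw [hg, hself1]
          have r3 : B (g (n v)) v = -δ := swap hB v _
          have r4 : B (n v) (g v) = δ := by rw [hadj, hcomm]
          have r5 : B (n v) (g (n v)) = 0 := by rw [hadj, hcomm, h2, map_zero, map_zero]
          have r6 : B (g (n v)) (n v) = 0 := by rw [swap hB (n v), r5, neg_zero]
          have r7 : B (n v) v = 0 := by rw [hadj, hself1]
          have r8 : B (g (n v)) (g v) = 0 := by rw [hg, r7]
          have q2 : B (n v) (L a) = 0 := ha _ ⟨![0, 0, 1, 0], by rw [hLapp]; simp⟩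
          have q3 : B (g (n v)) (L a) = 0 := ha _ ⟨![0, 0, 0, 1], by rw [hLapp]; simp⟩
          simp only [hLapp, map_add, map_smul, smul_eq_mul, hB (n v), hB (g (n v)), r3, r4, r5, r6, r7, r8,
            mul_zero, add_zero, zero_add] at q2 q3
          have e1 : a 1 = 0 := (mul_eq_zero.1 q2).resolve_right hv
          have e0 : a 0 = 0 := (mul_eq_zero.1 q3).resolve_right (neg_ne_zero.2 hv)
          have q0 : B v (L a) = 0 := ha _ ⟨![1, 0, 0, 0], by rw [hLapp]; simp⟩
          have q1 : B (g v) (L a) = 0 := ha _ ⟨![0, 1, 0, 0], by rw [hLapp]; simp⟩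
          simp only [hLapp, map_add, map_smul, smul_eq_mul, e0, e1, hself1, r1, r2, zero_smul, map_zero,
            LinearMap.zero_apply, zero_mul, mul_zero, add_zero, zero_add] at q0 q1
          have e3 : a 3 = 0 := (mul_eq_zero.1 q0).resolve_right hv
          have e2 : a 2 = 0 := (mul_eq_zero.1 q1).resolve_right (neg_ne_zero.2 hv)
          rw [hLapp, e0, e1, e2, e3]
          simp
      · right
        push Not at hv
        have hc : ∀ x, csum g (n x) = γ • n x := fun x => sub_eq_zero.1 (h2 x)
        obtain ⟨hs, hγ⟩ := scalar_on_top hB hg h3 hnd hadj hcomm hc hv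
        obtain ⟨w, hw⟩ := h1
        have hγ1 := hγ w hw
        set ε := -γ with hε
        have hεε : ε * ε = 1 := by rw [hε]; linear_combination hγ1
        have hε0 : ε ≠ 0 := fun h => by rw [h, mul_zero] at hεε; exact zero_ne_one hεε
        let u : V ≃ₗ[F] V := g.trans (LinearEquiv.smulOfUnit (Units.mk0 ε hε0))
        have hu : ∀ z, u z = ε • g z := fun z => rfl
        have hM : ∀ z, u (u z) + u z + z = ε • n z := fun z => by
          have := hgg z
          rw [hcomm, hs] at this
          rw [hu, hu, map_smul, smul_smul, hεε, one_smul, this, hε]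
          module
        have hu3 : ∀ z, u (u (u z)) = z := fun z => by
          have h := congrArg u (hM z)
          rw [map_add, map_add, map_smul, hu (n z), hs, smul_smul ε (-γ), ← hε, hεε, one_smul, ← hM] at h
          calc u (u (u z)) = u (u (u z)) + u (u z) + u z - (u (u z) + u z) := by abel
            _ = _ := by rw [h]; abel
        have hgu : ∀ z, g z = ε • u z := fun z => by rw [hu, smul_smul, hεε, one_smul]
        obtain ⟨x, y, hxy⟩ := nonzero_pairing hnd (m := ε • n) ⟨w, by simp [hε0, hw]⟩
        simp only [LinearMap.smul_apply] at hxy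
        have hself1 : ∀ v, B v (ε • n v) = 0 := fun v => by rw [map_smul, self_zero h3 hB hadj, smul_zero]
        obtain ⟨L, hL, hgL⟩ := normal_unipotent hB hg h3 ε hεε u hgu hu3 (x := x) (y := y)
          (by rw [hM]; exact hxy) (by rw [hM]; exact hself1 x) (by rw [hM]; exact hself1 y)
        -- the model
        set σ := frobE F E
        have hσ3 : ∀ z, σ (σ (σ z)) = z := frobE_three hE
        let U₀ : Module.End F (E × E) :=
          { toFun := fun z => (σ z.1, σ z.2)
            map_add' := fun a b => by simp only [Prod.fst_add, Prod.snd_add, map_add, Prod.mk_add_mk]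
            map_smul' := fun r a => by
              simp only [Prod.smul_fst, Prod.smul_snd, map_smul, RingHom.id_apply, Prod.smul_mk] }
        obtain ⟨uM, huM, huMiso⟩ := exists_equiv hE U₀ (fun a b => by
          rw [formP_apply, formP_apply, ← trace_frobE (a.1 * b.2 - a.2 * b.1)]
          congr 1
          simp only [U₀, LinearMap.coe_mk, AddHom.coe_mk, map_sub, map_mul, σ])
        let T : (E × E) ≃ₗ[F] (E × E) := uM.trans (LinearEquiv.smulOfUnit (Units.mk0 ε hε0))
        have hT : ∀ z, T z = ε • uM z := fun z => rfl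
        have hTiso : ∀ a b, formP F E (T a) (T b) = formP F E a b := fun a b => by
          rw [hT, hT, map_smul, map_smul, LinearMap.smul_apply, huMiso, smul_smul, hεε, one_smul]
        obtain ⟨z, hz⟩ := Algebra.trace_surjective F E 1
        have hone : σ (σ z) + σ z + z = 1 := by
          have := sum_frobE hE z
          rw [hz, map_one] at this
          rw [← this]; ring
        have huu : ∀ a b : E, uM (uM (a, b)) + uM (a, b) + (a, b) = (σ (σ a) + σ a + a, σ (σ b) + σ b + b) :=
          fun a b => by simp only [huM, U₀, LinearMap.coe_mk, AddHom.coe_mk, Prod.mk_add_mk]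
        obtain ⟨L', hL', hgL'⟩ := normal_unipotent (B := formP F E) formP_isAlt hTiso h3 ε hεε uM hT
          (fun z => by simp only [huM, U₀, LinearMap.coe_mk, AddHom.coe_mk, hσ3]) (x := (z, 0)) (y := (0, z))
          (by rw [huu, formP_apply]; simp [hone, hz])
          (by rw [huu, formP_apply]; simp) (by rw [huu, formP_apply]; simp)
        refine inField_of_frames hE hdim T ⟨σ, fun e w => ?_⟩ _ (fun a ha => ?_) _ L L' hL hgL hL' hgL'
        · rw [hT, hT, huM, huM]
          simp only [U₀, LinearMap.coe_mk, AddHom.coe_mk, Prod.smul_fst, Prod.smul_snd, smul_eq_mul, map_mul,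
            Prod.smul_mk, mul_smul_comm]
        · have q0 := ha (Pi.single 5 1)
          have q1 := ha (Pi.single 0 1)
          have q2 := ha (Pi.single 4 1)
          have q3 := ha (Pi.single 1 1)
          have q4 := ha (Pi.single 2 1)
          have q5 := ha (Pi.single 3 1)
          simp [Pi.single_apply] at q0 q1 q2 q3 q4 q5
          funext i
          fin_cases i <;> simp
          · exact q0
          · exact q2
          · linear_combination q5 - q2
          · exact q4
          · linear_combination q3 + q4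
          · exact q1
  · right
    push Not at h2
    obtain ⟨w, hw⟩ := h2
    have hm : ∀ x y, B (n (n x)) y = B x (n (n y)) := fun x y => by rw [hadj, hadj]
    obtain ⟨v, hv⟩ : ∃ v, B v (g (n (n v))) ≠ 0 := by
      by_contra hcon
      push Not at hcon
      obtain ⟨hs, hγ⟩ := scalar_on_top hB hg h3 hnd (m := n * n) (γ := γ) hm
        (fun x => by simp only [Module.End.mul_apply, hcomm])
        (fun x => sub_eq_zero.1 (hn x)) hcon
      simp only [Module.End.mul_apply] at hs hγ
      have hγ1 := hγ w hw
      obtain ⟨x, y, hxy⟩ := nonzero_pairing hnd (m := n * n) ⟨w, hw⟩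
      simp only [Module.End.mul_apply] at hxy
      let L : (Fin 6 → F) →ₗ[F] V :=
        { toFun := fun a => a 0 • x + a 1 • n x + a 2 • n (n x) + a 3 • y + a 4 • n y + a 5 • n (n y)
          map_add' := fun a b => by simp only [Pi.add_apply, add_smul]; abel
          map_smul' := fun c a => by
            simp only [Pi.smul_apply, smul_eq_mul, RingHom.id_apply, smul_add, smul_smul] }
      have hLapp : ∀ a, L a = a 0 • x + a 1 • n x + a 2 • n (n x) + a 3 • y + a 4 • n y + a 5 • n (n y) :=
        fun a => rfl
      have hxx : B x (n (n x)) = 0 := self_zero h3 hB (m := n * n) hm x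
      have hyy : B y (n (n y)) = 0 := self_zero h3 hB (m := n * n) hm y
      have hyx : B y (n (n x)) = -1 := by rw [← hm, swap hB x, hxy]
      have indep : ∀ a b : F, a • n (n x) + b • n (n y) = 0 → a = 0 ∧ b = 0 := fun a b h => by
        have e1 := congrArg (B x) h
        have e2 := congrArg (B y) h
        simp only [map_add, map_smul, map_zero, smul_eq_mul, hxx, hyy, hxy, hyx] at e1 e2
        exact ⟨by linear_combination -e2, by linear_combination e1⟩
      have htop : ∀ a, n (n (L a)) = a 0 • n (n x) + a 3 • n (n y) := fun a => by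
        simp only [hLapp, map_add, map_smul, hn, map_zero, smul_zero, add_zero]
      have hinj : Function.Injective L := (injective_iff_map_eq_zero _).2 fun a ha => by
        obtain ⟨e0, e3⟩ := indep _ _ (by rw [← htop, ha, map_zero, map_zero])
        have h1 := congrArg n ha
        simp only [hLapp, map_add, map_smul, hn, map_zero, smul_zero, add_zero, e0, e3, zero_smul, zero_add] at h1
        obtain ⟨e1, e4⟩ := indep _ _ h1
        have h0 := ha
        simp only [hLapp, e0, e1, e3, e4, zero_smul, zero_add, add_zero] at h0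
        obtain ⟨e2, e5⟩ := indep _ _ h0
        funext i; fin_cases i <;> assumption
      have hsur := (LinearMap.injective_iff_surjective_of_finrank_eq_finrank (f := L)
        (by rw [Module.finrank_fintype_fun_eq_card, Fintype.card_fin, hdim])).1 hinj
      have hNV : ∀ v, ∃ w, g v - (-γ) • v = n w := fun v => by
        obtain ⟨a, ha⟩ := hsur (g v - (-γ) • v)
        have h0 := htop a
        rw [ha, map_sub, map_sub, map_smul, map_smul, hcomm, hcomm, hs, sub_self] at h0
        obtain ⟨e0, e3⟩ := indep _ _ h0.symm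
        refine ⟨a 1 • x + a 2 • n x + a 4 • y + a 5 • n y, ?_⟩
        rw [← ha]
        simp only [hLapp, e0, e3, zero_smul, zero_add, add_zero, map_add, map_smul]
      have hsq : ∀ v, g (g v - (-γ) • v) - (-γ) • (g v - (-γ) • v) = g (n v) := fun v => by
        have h3v : (3 : F) • (γ • g v) = 0 := by rw [h3, zero_smul]
        have h1v : (γ * γ - 1) • v = 0 := by rw [hγ1, sub_self, zero_smul]
        rw [map_sub, map_smul, hgg, hcomm]
        linear_combination (norm := module) h3v + h1v
      have hn2 : ∀ v, ∃ w, n v = n (n w) := fun v => by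
        obtain ⟨w₁, hw₁⟩ := hNV v
        obtain ⟨w₂, hw₂⟩ := hNV w₁
        refine ⟨g.symm w₂, ?_⟩
        have h := hsq v
        rw [hw₁] at h
        apply g.injective
        rw [← h, ← hcomm w₁, ← map_smul n, ← map_sub, hw₂, ← hcomm (n _), ← hcomm, LinearEquiv.apply_symm_apply]
      obtain ⟨w', hw'⟩ := hn2 w
      rw [hw', hn] at hw
      exact hw rfl
    set δ := B v (g (n (n v)))
    obtain ⟨L, hL, hgL⟩ := normal_cyclic hB hg h3 γ hn (v := v) (δ := δ) (by rw [hcomm, hcomm]) hv
    obtain ⟨T, hTiso, hTsemi, hTn, v', hv'⟩ : ∃ T : (E × E) ≃ₗ[F] (E × E),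
        (∀ x y, formP F E (T x) (T y) = formP F E x y) ∧
        (∀ (e : E) (z : E × E), T (e • z) = frobE F E e • T z) ∧
        (∀ x, nil T γ (nil T γ (nil T γ x)) = 0) ∧ ∃ v, formP F E v (nil T γ (nil T γ (T v))) = δ := by
      by_cases hγ : γ * γ = 1
      · exact model_regular hE h3 γ δ hγ
      · exact model_semisimple hE h3 γ δ hγ hv
    obtain ⟨L', hL', hgL'⟩ := normal_cyclic (B := formP F E) formP_isAlt hTiso h3 γ hTn hv' hv
    refine inField_of_frames hE hdim T ⟨_, hTsemi⟩ _ (fun a ha => ?_) _ L L' hL hgL hL' hgL'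
    have q0 := ha (Pi.single 5 1)
    have q1 := ha (Pi.single 4 1)
    have q2 := ha (Pi.single 3 1)
    have q3 := ha (Pi.single 2 1)
    have q4 := ha (Pi.single 1 1)
    have q5 := ha (Pi.single 0 1)
    simp [Pi.single_apply, hv] at q0 q1 q2 q3 q4 q5
    funext i
    fin_cases i <;> assumption

/-- Every isometry splits or preserves a cubic field structure. -/
theorem split_or_field : HasSplit B g ∨ InField E B g := by
  classical
  by_cases hno : HasSplit B g
  · exact Or.inl hno
  obtain ⟨f, hfi, hfm, hf3, w, hw, hfw⟩ := exists_factor hB hg h3 hnd hdim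
  have hprim := primary hB hg h3 hnd hdim hfi hw hfw hno
  have hpos := hfi.natDegree_pos
  rcases (show f.natDegree = 1 ∨ f.natDegree = 2 ∨ f.natDegree = 3 by omega) with hd | hd | hd
  · have hfe : f = X - C (-f.coeff 0) := by
      rw [map_neg, sub_neg_eq_add]
      conv_lhs => rw [hfm.eq_X_add_C hd]
    refine split_or_field_linear hB hnd hdim hg h3 hE (-f.coeff 0) fun x => ?_
    have happ : ∀ z, aeval (csum g) f z = nil g (-f.coeff 0) z := fun z => by
      conv_lhs => rw [hfe]
      simp [nil_apply]
    obtain ⟨j, hj, hjx⟩ := hprim x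
    rw [hd, mul_one] at hj
    have h0 : aeval (csum g) (f ^ 3) x = 0 := by
      rw [← Nat.sub_add_cancel hj, pow_add, map_mul, Module.End.mul_apply, hjx, map_zero]
    simpa [pow_succ, happ] using h0
  all_goals
    have hzero : ∀ v, aeval (csum g) f v = 0 := fun v => by
      obtain ⟨j, hj, hjx⟩ := hprim v
      rw [hd] at hj
      have hj1 : j ≤ 1 := by omega
      rw [← pow_one f, ← Nat.sub_add_cancel hj1, pow_add, map_mul, Module.End.mul_apply, hjx, map_zero]
  · exact (no_quadratic hB hnd hdim hg h3 f hfi hfm hd hzero).elim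
  · exact Or.inr (inField_cubic hB hnd hdim hg h3 hE f hfi hfm hd hzero)

end Cfsg.Agent.Classical.NormalCover.SixCases
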