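import Mathlib
import Cfsg.Agent.Lib.Classical.NormalCover.Basic
import Cfsg.Agent.Lib.Classical.NormalCover.SympSixCases
import Cfsg.Agent.Lib.Classical.Symplectic

/-!
# `PSp₆` in characteristic three is covered by two classes of subgroups
-/

set_option autoImplicit false
set_option linter.unusedSectionVars false

namespace Cfsg.Agent.Classical.NormalCover.SympSix

open Matrix Module
open Cfsg.Agent.Forms.SympStd Cfsg.Agent.Classical.Symplectic
open Cfsg.Agent.Classical.NormalCover.Indec Cfsg.Agent.Classical.NormalCover.SixModel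

variable {F : Type*} [Field F] [Fintype F]

local notation "Vec" => (Fin 3 ⊕ Fin 3 → F)
local notation "Mat" => Matrix (Fin 3 ⊕ Fin 3) (Fin 3 ⊕ Fin 3) F
local notation "Sp" => Matrix.symplecticGroup (Fin 3) F
local notation "f" => Cfsg.sympForm 3 F

/-- a submonoid of a finite group as a subgroup -/
def finSub {G : Type*} [Group G] [Finite G] (M : Submonoid G) : Subgroup G :=
  { M with
    inv_mem' := fun {x} hx => by
      have h : x⁻¹ = x ^ (orderOf x - 1) := inv_eq_of_mul_eq_one_right (by
        rw [← pow_succ', Nat.sub_add_cancel (orderOf_pos x), pow_orderOf_eq_one])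
      rw [h]
      exact M.pow_mem hx _ }

/-- the stabiliser of a subspace -/
def spStab (W : Submodule F (Fin 3 ⊕ Fin 3 → F)) : Subgroup (Matrix.symplecticGroup (Fin 3) F) :=
  finSub
    { carrier := {A | ∀ v ∈ W, (A : Mat) *ᵥ v ∈ W}
      one_mem' := fun v hv => by rwa [show ((1 : Sp) : Mat) = 1 from rfl, one_mulVec]
      mul_mem' := fun {A C} hA hC v hv => by rw [mul_mulVec_sp]; exact hA _ (hC v hv) }

theorem mem_spStab {W : Submodule F Vec} {A : Sp} : A ∈ spStab W ↔ ∀ v ∈ W, (A : Mat) *ᵥ v ∈ W := Iff.rfl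

/-- an element as a linear equivalence -/
def toEquiv (A : Matrix.symplecticGroup (Fin 3) F) : (Fin 3 ⊕ Fin 3 → F) ≃ₗ[F] (Fin 3 ⊕ Fin 3 → F) :=
  { Matrix.mulVecLin (A : Mat) with
    invFun := fun v => ((A⁻¹ : Sp) : Mat) *ᵥ v
    left_inv := fun v => inv_mulVec_of_eq rfl
    right_inv := fun v => by
      show (A : Mat) *ᵥ (((A⁻¹ : Sp) : Mat) *ᵥ v) = v
      rw [← mul_mulVec_sp, mul_inv_cancel]; exact one_mulVec v }

theorem toEquiv_apply (A : Sp) (v : Vec) : toEquiv A v = (A : Mat) *ᵥ v := rfl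

variable {E : Type*} [Field E] [Algebra F E] [Finite E]

/-- the normaliser of a field structure -/
noncomputable def fieldStab (Φ : (E × E) ≃ₗ[F] (Fin 3 ⊕ Fin 3 → F)) : Subgroup (Matrix.symplecticGroup (Fin 3) F) :=
  finSub
    { carrier := {A | ∃ τ : E ≃ₐ[F] E, ∀ (e : E) (z : E × E),
        Φ.symm (toEquiv A (Φ (e • z))) = τ e • Φ.symm (toEquiv A (Φ z))}
      one_mem' := ⟨AlgEquiv.refl, fun e z => by
        simp only [toEquiv_apply, show ((1 : Sp) : Mat) = 1 from rfl, one_mulVec, LinearEquiv.symm_apply_apply,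
          AlgEquiv.coe_refl, id_eq]⟩
      mul_mem' := fun {A C} ⟨τ, hτ⟩ ⟨σ, hσ⟩ => ⟨σ.trans τ, fun e z => by
        have h : ∀ w, Φ.symm (toEquiv (A * C) w) = Φ.symm (toEquiv A (Φ (Φ.symm (toEquiv C w)))) := fun w => by
          rw [LinearEquiv.apply_symm_apply, toEquiv_apply, toEquiv_apply, toEquiv_apply, mul_mulVec_sp]
        rw [h, h, hσ, hτ, AlgEquiv.trans_apply]⟩ }

theorem mem_fieldStab {Φ : (E × E) ≃ₗ[F] Vec} {A : Sp} : A ∈ fieldStab Φ ↔ ∃ τ : E ≃ₐ[F] E,
    ∀ (e : E) (z : E × E), Φ.symm (toEquiv A (Φ (e • z))) = τ e • Φ.symm (toEquiv A (Φ z)) := Iff.rfl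

theorem exists_isometry (hE : finrank F E = 3) :
    ∃ Φ : (E × E) ≃ₗ[F] Vec, ∀ x y, f (Φ x) (Φ y) = formP F E x y := by
  classical
  haveI : FiniteDimensional F E := Module.Finite.of_finite
  let b := Module.finBasisOfFinrankEq F E hE
  let d := (Algebra.traceForm F E).dualBasis (traceForm_nondegenerate F E) b
  let Le : Vec ≃ₗ[F] E × E :=
    (LinearEquiv.sumArrowLequivProdArrow (Fin 3) (Fin 3) F F).trans
      ((LinearEquiv.prodComm F _ _).trans (LinearEquiv.prodCongr b.equivFun.symm d.equivFun.symm))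
  have hLe : ∀ a, Le a = (∑ i, a (Sum.inr i) • b i, ∑ i, a (Sum.inl i) • d i) := fun a => by
    simp [Le, Module.Basis.equivFun_symm_apply, LinearEquiv.prodComm_apply]
  have key : ∀ a c, formP F E (Le a) (Le c) = f a c := fun a c => by
    rw [formP_apply, hLe, hLe, sympForm_eq]
    have hbd : ∀ i j, Algebra.trace F E (b i * d j) = if i = j then 1 else 0 := fun i j => by
      rw [mul_comm, ← Algebra.traceForm_apply]
      exact LinearMap.BilinForm.apply_dualBasis_left (traceForm_nondegenerate F E) b j i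
    simp only [Finset.sum_mul, Finset.mul_sum, smul_mul_smul_comm, map_sub, map_sum, map_smul, smul_eq_mul]
    have hdb : ∀ i j, Algebra.trace F E (d i * b j) = if j = i then 1 else 0 := fun i j => by
      rw [mul_comm]; exact hbd j i
    simp only [hbd, hdb, mul_ite, mul_one, mul_zero, Finset.sum_ite_eq, Finset.sum_ite_eq', Finset.mem_univ,
      if_true, Finset.sum_sub_distrib]
  exact ⟨Le.symm, fun x y => by rw [← key, LinearEquiv.apply_symm_apply, LinearEquiv.apply_symm_apply]⟩

theorem li_of_pair {u v : Vec} (h : f u v = 1) : LinearIndependent F ![u, v] :=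
  LinearIndependent.pair_iff.2 fun a b hab => by
    have e1 := congrArg (fun w => f u w) hab
    have e2 := congrArg (fun w => f v w) hab
    simp only [f_add_right, f_smul_right, sympForm_self, h, sympForm_swap u v] at e1 e2
    rw [show f u 0 = 0 by rw [← sympB_apply, map_zero]] at e1
    rw [show f v 0 = 0 by rw [← sympB_apply, map_zero]] at e2
    exact ⟨by linear_combination -e2, by linear_combination e1⟩

/-- a non-degenerate space of dimension at most three is a plane -/
theorem exists_hyp {U : Submodule F Vec} (hU : U ≠ ⊥) (hdisj : Disjoint U ((sympB 3 F).orthogonal U))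
    (hle : finrank F U ≤ 3) : ∃ x y, f x y = 1 ∧ U = Submodule.span F {x, y} := by
  classical
  obtain ⟨x, hx, hx0⟩ := Submodule.exists_mem_ne_zero_of_ne_bot hU
  obtain ⟨y, hy, hxy⟩ : ∃ y ∈ U, f x y = 1 := by
    by_contra hcon
    push Not at hcon
    refine hx0 (Submodule.disjoint_def.1 hdisj x hx ?_)
    rw [LinearMap.BilinForm.mem_orthogonal_iff]
    intro w hw
    show sympB 3 F w x = 0
    rw [sympB_apply, sympForm_swap x w, neg_eq_zero]
    by_contra hne
    exact hcon ((f x w)⁻¹ • w) (U.smul_mem _ hw) (by rw [f_smul_right, inv_mul_cancel₀ hne])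
  have hyx : f y x = -1 := by rw [sympForm_swap x y, hxy]
  refine ⟨x, y, hxy, le_antisymm (fun z hz => ?_) (Submodule.span_le.2 (by rintro _ (rfl | rfl) <;> assumption))⟩
  set z' := z - f x z • y + f y z • x with hz'
  have hzm : z' ∈ U := add_mem (sub_mem hz (U.smul_mem _ hy)) (U.smul_mem _ hx)
  have e1 : f x z' = 0 := by
    simp only [hz', sub_eq_add_neg, f_add_right, f_smul_right, ← neg_smul, hxy, sympForm_self]
    ring
  have e2 : f y z' = 0 := by
    simp only [hz', sub_eq_add_neg, f_add_right, f_smul_right, ← neg_smul, hyx, sympForm_self]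
    ring
  by_cases h0 : z' = 0
  · rw [hz'] at h0
    refine Submodule.mem_span_pair.2 ⟨-f y z, f x z, ?_⟩
    rw [← sub_eq_zero]
    rw [← neg_eq_zero, ← h0]
    module
  exfalso
  have hli : LinearIndependent F ![x, y, z'] := by
    rw [Fintype.linearIndependent_iff]
    intro c hc
    rw [Fin.sum_univ_three] at hc
    simp only [Matrix.cons_val_zero, Matrix.cons_val_one, Matrix.cons_val] at hc
    have c1 := congrArg (fun w => f x w) hc
    have c0 := congrArg (fun w => f y w) hc
    simp only [f_add_right, f_smul_right, sympForm_self, hxy, hyx, e1, e2] at c0 c1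
    rw [show f x 0 = 0 by rw [← sympB_apply, map_zero]] at c1
    rw [show f y 0 = 0 by rw [← sympB_apply, map_zero]] at c0
    have h1 : c 1 = 0 := by linear_combination c1
    have h0' : c 0 = 0 := by linear_combination -c0
    rw [h0', h1, zero_smul, zero_smul, zero_add, zero_add] at hc
    have h2 : c 2 = 0 := (smul_eq_zero.1 hc).resolve_right h0
    intro i; fin_cases i <;> assumption
  have hsub : Submodule.span F (Set.range ![x, y, z']) ≤ U := Submodule.span_le.2 (by
    rintro _ ⟨i, rfl⟩; fin_cases i <;> assumption)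
  have heq : Submodule.span F (Set.range ![x, y, z']) = U :=
    Submodule.eq_of_le_of_finrank_le hsub (by rw [finrank_span_eq_card hli, Fintype.card_fin]; exact hle)
  refine h0 (Submodule.disjoint_def.1 hdisj z' hzm ?_)
  rw [LinearMap.BilinForm.mem_orthogonal_iff]
  intro w hw
  show sympB 3 F w z' = 0
  rw [← heq] at hw
  induction hw using Submodule.span_induction with
  | mem u hu =>
    obtain ⟨i, rfl⟩ := hu
    rw [sympB_apply]
    fin_cases i
    · exact e1
    · exact e2
    · exact sympForm_self z'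
  | zero => rw [map_zero, LinearMap.zero_apply]
  | add a b _ _ ha hb => rw [LinearMap.map_add₂, ha, hb, add_zero]
  | smul t a _ ha => rw [map_smul, LinearMap.smul_apply, ha, smul_zero]

/-- a split element fixes a non-degenerate plane -/
theorem exists_plane (A : Sp) (h : HasSplit (sympB 3 F) (toEquiv A)) :
    ∃ x y : Vec, f x y = 1 ∧ A ∈ spStab (Submodule.span F {x, y}) := by
  classical
  obtain ⟨U, hbot, htop, hinv, hdisj⟩ := h
  have hdim : finrank F Vec = 6 := finrank_vec
  have horth := LinearMap.BilinForm.finrank_orthogonal (B := sympB 3 F) sympB_nondegenerate U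
  obtain ⟨W, hWb, hWd, hW3, hWi⟩ : ∃ W : Submodule F Vec, W ≠ ⊥ ∧ Disjoint W ((sympB 3 F).orthogonal W) ∧
      finrank F W ≤ 3 ∧ ∀ v ∈ W, (A : Mat) *ᵥ v ∈ W := by
    by_cases h3 : finrank F U ≤ 3
    · exact ⟨U, hbot, hdisj, h3, fun v hv => hinv v hv⟩
    refine ⟨(sympB 3 F).orthogonal U, fun hb => ?_, ?_, by omega, fun v hv => ?_⟩
    · rw [hb, finrank_bot] at horth
      exact htop (Submodule.eq_top_of_finrank_eq (by have := U.finrank_le; omega))
    · rw [LinearMap.BilinForm.orthogonal_orthogonal (sympB_nondegenerate (m := 3) (F := F))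
        (LinearMap.IsAlt.isRefl (sympB_isAlt (m := 3) (F := F)))]
      exact hdisj.symm
    · rw [LinearMap.BilinForm.mem_orthogonal_iff] at hv ⊢
      intro u hu
      have hmap : U.map (toEquiv A).toLinearMap = U := Submodule.eq_of_le_of_finrank_eq
        (by rintro _ ⟨w, hw, rfl⟩; exact hinv w hw) (LinearEquiv.finrank_map_eq _ _)
      rw [← hmap] at hu
      obtain ⟨w, hw, rfl⟩ := hu
      show sympB 3 F ((A : Mat) *ᵥ w) ((A : Mat) *ᵥ v) = 0
      rw [sympB_apply, sympForm_mulVec, ← sympB_apply]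
      exact hv w hw
  obtain ⟨x, y, hxy, rfl⟩ := exists_hyp hWb hWd hW3
  exact ⟨x, y, hxy, hWi⟩

theorem center_scalar {A : Sp} (hA : A ∈ Subgroup.center Sp) : ∃ a : F, ∀ v : Vec, (A : Mat) *ᵥ v = a • v :=
  (mem_center_iff A).1 hA

theorem fieldStab_ne_top (hE : finrank F E = 3) (h3 : (3 : F) = 0) (Φ : (E × E) ≃ₗ[F] Vec) :
    fieldStab Φ ≠ ⊤ := by
  intro htop
  classical
  haveI : FiniteDimensional F E := Module.Finite.of_finite
  let d : Fin 3 ⊕ Fin 3 → F := Sum.elim (fun i => if i = 0 then -1 else 1) (fun i => if i = 0 then -1 else 1)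
  let D : Sp := ⟨Matrix.diagonal d, mem_sp_iff.2 fun u v => by
    rw [sympForm_eq, sympForm_eq]
    refine Finset.sum_congr rfl fun i _ => ?_
    simp only [Matrix.mulVec_diagonal, d, Sum.elim_inl, Sum.elim_inr]
    split_ifs <;> ring⟩
  have hD : ∀ v, (D : Mat) *ᵥ v = fun i => d i * v i := fun v => funext fun i => Matrix.mulVec_diagonal _ _ _
  obtain ⟨τ, hτ⟩ := mem_fieldStab.1 (show D ∈ fieldStab Φ by rw [htop]; trivial)
  have hdd : ∀ i, d i * d i = 1 := fun i => by
    rcases i with i | i <;> simp only [d, Sum.elim_inl, Sum.elim_inr] <;> split_ifs <;> ring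
  have hDD : ∀ v, (D : Mat) *ᵥ ((D : Mat) *ᵥ v) = v := fun v => by
    rw [hD, hD]; funext i; rw [← mul_assoc, hdd, one_mul]
  have hττ : ∀ e, τ (τ e) = e := fun e => by
    have h := hτ (τ e) (Φ.symm (toEquiv D (Φ (1, 0))))
    rw [← hτ e] at h
    simp only [LinearEquiv.apply_symm_apply, toEquiv_apply, hDD, LinearEquiv.symm_apply_apply] at h
    have h' := congrArg Prod.fst h
    simpa using h'.symm
  have hτ1 : ∀ e, τ e = e := fun e => by
    have h : τ ^ finrank F E = 1 := by rw [← IsGalois.card_aut_eq_finrank F E]; exact pow_card_eq_one'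
    rw [hE, pow_succ, pow_two] at h
    have h2 : τ (τ (τ e)) = e := DFunLike.congr_fun h e
    rwa [hττ] at h2
  let m : E × E := Φ.symm (Pi.single (Sum.inl 0) 1)
  have hm : toEquiv D (Φ m) = -Φ m := by
    rw [LinearEquiv.apply_symm_apply, toEquiv_apply, hD]
    funext i
    by_cases hi : i = Sum.inl 0
    · subst hi; simp [d]
    · simp [hi]
  have hem : ∀ e, toEquiv D (Φ (e • m)) = -Φ (e • m) := fun e => by
    have h := hτ e m
    rw [hτ1, hm, map_neg, LinearEquiv.symm_apply_apply, LinearEquiv.symm_apply_eq, smul_neg, map_neg] at h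
    exact h
  let P : E →ₗ[F] F × F :=
    ((LinearMap.proj (R := F) (φ := fun _ : Fin 3 ⊕ Fin 3 => F) (Sum.inl 0)).prod
      (LinearMap.proj (R := F) (φ := fun _ : Fin 3 ⊕ Fin 3 => F) (Sum.inr 0))).comp
      (Φ.toLinearMap.comp ((LinearMap.toSpanSingleton E (E × E) m).restrictScalars F))
  have hinj : Function.Injective P := (injective_iff_map_eq_zero _).2 fun e he => by
    have h1 : Φ (e • m) (Sum.inl 0) = 0 := congrArg Prod.fst he
    have h2 : Φ (e • m) (Sum.inr 0) = 0 := congrArg Prod.snd he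
    have h0 : Φ (e • m) = 0 := funext fun i => by
      have h := congrFun (hem e) i
      rw [toEquiv_apply, hD] at h
      by_cases hi : d i = -1
      · rcases i with i | i <;> simp only [d, Sum.elim_inl, Sum.elim_inr] at hi <;> split_ifs at hi with h'
        · rw [h']; exact h1
        · exact absurd hi fun h => one_ne_zero (α := F) (by linear_combination h3 - h)
        · rw [h']; exact h2
        · exact absurd hi fun h => one_ne_zero (α := F) (by linear_combination h3 - h)
      · have hd1 : d i = 1 := by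
          rcases i with i | i <;> simp only [d, Sum.elim_inl, Sum.elim_inr] at hi ⊢ <;> split_ifs at hi ⊢ <;> simp_all
        simp only [hd1, one_mul, Pi.neg_apply] at h
        show Φ (e • m) i = 0
        linear_combination (Φ (e • m) i) * h3 - h
    have hm0 : e • m = 0 := by simpa using h0
    refine (smul_eq_zero.1 hm0).resolve_right fun hz => ?_
    have := congrArg Φ hz
    simp [m] at this
  have := LinearMap.finrank_le_finrank_of_injective hinj
  rw [hE, Module.finrank_prod, Module.finrank_self] at this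
  omega

/-- `PSp₆(3^a)` is covered by two classes. -/
theorem coversTwo_PSp6 (hE : finrank F E = 3) (h3 : (3 : F) = 0) : CoversTwo (Cfsg.PSp 3 F) := by
  classical
  haveI : FiniteDimensional F E := Module.Finite.of_finite
  obtain ⟨Φ₀, hΦ₀⟩ := exists_isometry (F := F) hE
  let p0 : Vec := Pi.single (Sum.inr 0) 1
  let q0 : Vec := Pi.single (Sum.inl 0) 1
  have hpq : f p0 q0 = 1 := by rw [sympForm_inr_inl, if_pos rfl]
  let W₀ : Submodule F Vec := Submodule.span F {p0, q0}
  refine covers_quotient (G := Sp) (Subgroup.center Sp) (spStab W₀) (fieldStab Φ₀) (fun A hA => ?_) (fun A hA => ?_)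
    (fun htop => ?_) (fieldStab_ne_top hE h3 Φ₀) fun A => ?_
  · obtain ⟨a, ha⟩ := center_scalar hA
    exact fun v hv => by rw [ha]; exact W₀.smul_mem a hv
  · obtain ⟨a, ha⟩ := center_scalar hA
    refine mem_fieldStab.2 ⟨AlgEquiv.refl, fun e z => ?_⟩
    simp only [toEquiv_apply, ha, map_smul, LinearEquiv.symm_apply_apply, AlgEquiv.coe_refl, id_eq]
    exact smul_comm _ _ _
  · obtain ⟨X, hX, -⟩ := exists_map_pair (li_of_pair hpq)
      (li_of_pair (u := Pi.single (Sum.inr 1) (1 : F)) (v := Pi.single (Sum.inl 1) 1)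
        (by rw [sympForm_inr_inl, if_pos rfl]))
      (by rw [hpq, sympForm_inr_inl, if_pos rfl])
    have hm : X ∈ spStab W₀ := by rw [htop]; trivial
    have h := mem_spStab.1 hm p0 (Submodule.subset_span (Set.mem_insert p0 _))
    rw [hX] at h
    obtain ⟨a, b, hab⟩ := Submodule.mem_span_pair.1 h
    simpa [p0, q0] using congrFun hab (Sum.inr 1)
  rcases SixCases.split_or_field (B := sympB 3 F) sympB_isAlt sympB_nondegenerate finrank_vec (g := toEquiv A)
      (fun x y => by rw [sympB_apply, sympB_apply]; exact sympForm_mulVec A x y) h3 hE with h | ⟨Φ, hΦ, τ, hτ⟩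
  · obtain ⟨x, y, hxy, hA⟩ := exists_plane A h
    obtain ⟨X, hXx, hXy⟩ := exists_map_pair (li_of_pair hxy) (li_of_pair hpq) (hxy.trans hpq.symm)
    refine ⟨X, Or.inl (mem_spStab.2 fun v hv => ?_)⟩
    have hmap : W₀ = (Submodule.span F {x, y}).map (Matrix.mulVecLin (X : Mat)) := by
      rw [Submodule.map_span, Set.image_pair, Matrix.mulVecLin_apply, Matrix.mulVecLin_apply, hXx, hXy]
    rw [hmap] at hv ⊢
    obtain ⟨w, hw, rfl⟩ := hv
    exact ⟨_, mem_spStab.1 hA w hw, by
      rw [Matrix.mulVecLin_apply, Matrix.mulVecLin_apply, mul_mulVec_sp, mul_mulVec_sp, inv_mulVec_of_eq rfl]⟩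
  · have hΦ' : ∀ x y, f (Φ x) (Φ y) = formP F E x y := fun x y => by rw [← sympB_apply]; exact hΦ x y
    let X : Sp := ofEquiv (Φ.symm.trans Φ₀) fun u v => by
      rw [LinearEquiv.trans_apply, LinearEquiv.trans_apply, hΦ₀, ← hΦ', LinearEquiv.apply_symm_apply,
        LinearEquiv.apply_symm_apply]
    have hX : ∀ v, (X : Mat) *ᵥ v = Φ₀ (Φ.symm v) := fun v => ofEquiv_mulVec _ _ v
    have key : ∀ z, Φ₀.symm (toEquiv (X * A * X⁻¹) (Φ₀ z)) = Φ.symm (toEquiv A (Φ z)) := fun z => by
      have h1 : ((X⁻¹ : Sp) : Mat) *ᵥ Φ₀ z = Φ z := inv_mulVec_of_eq (by rw [hX, LinearEquiv.symm_apply_apply])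
      rw [toEquiv_apply, mul_mulVec_sp, mul_mulVec_sp, h1, hX, LinearEquiv.symm_apply_apply, toEquiv_apply]
    exact ⟨X, Or.inr (mem_fieldStab.2 ⟨τ, fun e z => by rw [key, key]; exact hτ e z⟩)⟩

end Cfsg.Agent.Classical.NormalCover.SympSix
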