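import Mathlib
import Cfsg.Agent.Lib.Classical.NormalCover.Basic
import Cfsg.Agent.Lib.Forms.HermStab

/-!
# Subspace stabilisers in the special unitary groups
-/

set_option autoImplicit false
set_option linter.unusedSectionVars false

namespace Cfsg.Agent.Classical.NormalCover.UStab

open Matrix Cfsg.Agent.Classical.Unitary Cfsg.Agent.Forms

variable {F : Type*} [Field F] [Fintype F] {q n : ℕ} (hF : Fintype.card F = q ^ 2)

local notation "Vec" => (Fin n → F)
local notation "H" => Cfsg.hermForm n F q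

/-- The stabiliser of a subspace in the special unitary group. -/
def suStab (W : Submodule F (Fin n → F)) : Subgroup (Cfsg.SU n F q) :=
  (HermStab.guStab (q := q) W).comap suToGU

theorem mem_suStab {W : Submodule F Vec} {g : Cfsg.SU n F q} :
    g ∈ suStab W ↔ ∀ v, v ∈ W ↔ mat g *ᵥ v ∈ W := Iff.rfl

include hF

theorem mem_of_forward {W : Submodule F Vec} {g : Cfsg.SU n F q} (h : ∀ v ∈ W, mat g *ᵥ v ∈ W) :
    g ∈ suStab W := by
  have hinj : Function.Injective fun v : Vec => mat g *ᵥ v := HermStab.gmat_injective hF (suToGU g)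
  refine mem_suStab.2 fun v => ⟨h v, fun hv => ?_⟩
  obtain ⟨⟨w, hw⟩, hwe⟩ := Finite.injective_iff_surjective.1
    (show Function.Injective fun w : W => (⟨_, h _ w.2⟩ : W) from
      fun a b hab => Subtype.ext (hinj (congrArg Subtype.val hab))) ⟨_, hv⟩
  exact hinj (congrArg Subtype.val hwe) ▸ hw

theorem conj_mem {W W₀ : Submodule F Vec} {g x : Cfsg.SU n F q} (hg : ∀ v ∈ W, mat g *ᵥ v ∈ W)
    (hx : W.map (Matrix.mulVecLin (mat x)) = W₀) : x * g * x⁻¹ ∈ suStab W₀ := by
  refine mem_of_forward hF fun v hv => ?_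
  rw [← hx] at hv ⊢
  obtain ⟨w, hw, rfl⟩ := hv
  exact ⟨_, hg w hw, by rw [Matrix.mulVecLin_apply, Matrix.mulVecLin_apply, mul_mulVec, mul_mulVec,
    inv_mulVec x rfl]⟩

theorem center_le (hn : 2 ≤ n) (W : Submodule F Vec) :
    Subgroup.center (Cfsg.SU n F q) ≤ suStab W := fun g hg => by
  obtain ⟨a, ha⟩ := (mem_center_iff hF hn g).1 hg
  refine mem_of_forward hF fun v hv => ?_
  rw [ha, Matrix.smul_mulVec, Matrix.one_mulVec]
  exact W.smul_mem a hv

theorem exists_su_line (hn : 2 ≤ n) {v : Vec} (hv : H v v ≠ 0) (i₀ : Fin n) :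
    ∃ x : Cfsg.SU n F q, (F ∙ v).map (Matrix.mulVecLin (mat x)) = F ∙ Pi.single i₀ (1 : F) := by
  classical
  obtain ⟨a, ha⟩ := UnitaryCount.exists_norm_eq hF (inv_ne_zero hv) (by rw [inv_pow, H_conj hF])
  have hv0 : v ≠ 0 := fun e => hv (by rw [e, H_zero_left])
  have ha0 : a ≠ 0 := fun e => inv_ne_zero hv (by rw [← ha, e, zero_pow (Nat.succ_ne_zero q)])
  set w := a • v with hw
  have hww : H w w = 1 := by
    rw [hw, H_smul_left, H_smul_right, ← mul_assoc, ← pow_succ', ha, inv_mul_cancel₀ hv]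
  have hw0 : w ≠ 0 := smul_ne_zero ha0 hv0
  let es := LinearEquiv.toSpanNonzeroSingleton F Vec w hw0
  let f : (F ∙ w) →ₗ[F] Vec :=
    (LinearMap.toSpanSingleton F Vec (Pi.single i₀ 1)).comp es.symm.toLinearMap
  have hf : ∀ x, f x = es.symm x • Pi.single i₀ (1 : F) := fun x => rfl
  have hxc : ∀ x : (F ∙ w), (x : Vec) = es.symm x • w := fun x => by
    conv_lhs => rw [← es.apply_symm_apply x]
    rfl
  obtain ⟨g, hg⟩ := HermStd.exists_extend hF (F ∙ w) f (fun x y hxy => by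
    rw [hf, hf] at hxy
    exact es.symm.injective (by simpa using congrFun hxy i₀)) fun x y => by
    rw [hf, hf, hxc x, hxc y, H_smul_left, H_smul_left, H_smul_right, H_smul_right, hww, H_single_single hF,
      if_pos rfl]
  have hgw : gmat g *ᵥ w = Pi.single i₀ 1 := by
    have h1 := hg ⟨w, Submodule.mem_span_singleton_self w⟩
    have h2 : es.symm ⟨w, Submodule.mem_span_singleton_self w⟩ = 1 :=
      (LinearEquiv.symm_apply_eq _).2 (Subtype.ext (by simp [es]))
    rw [hf, h2, one_smul] at h1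
    exact h1
  obtain ⟨i₁, hi₁⟩ : ∃ i₁ : Fin n, i₁ ≠ i₀ := by
    haveI : Nontrivial (Fin n) := Fin.nontrivial_iff_two_le.2 hn
    exact exists_ne i₀
  have hdet : (gmat g).det ^ (q + 1) = 1 := HermStd.det_norm hF _ g.2
  let d : Fin n → F := Function.update 1 i₁ ((gmat g).det)⁻¹
  have hd : ∀ i, d i ^ (q + 1) = 1 := fun i => by
    by_cases hi : i = i₁
    · subst hi; simp [d, hdet]
    · simp [d, hi]
  let D := diagGU hF d hd
  have h1 : (gmat (D * g)).det = 1 := by
    rw [gmat_mul, Matrix.det_mul, gmat_diagGU, Matrix.det_diagonal, Finset.prod_update_of_mem (Finset.mem_univ _)]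
    simp only [Pi.one_apply, Finset.prod_const_one, mul_one]
    exact inv_mul_cancel₀ fun e => by rw [e, zero_pow (Nat.succ_ne_zero q)] at hdet; exact zero_ne_one hdet
  refine ⟨suOfGU (D * g) h1, ?_⟩
  rw [← Submodule.span_singleton_smul_eq (IsUnit.mk0 _ ha0) v, ← hw, Submodule.map_span, Set.image_singleton]
  congr 2
  show gmat (D * g) *ᵥ w = _
  rw [gmul_mulVec, hgw, gmat_diagGU]
  ext i
  rw [Matrix.mulVec_diagonal]
  by_cases hi : i = i₀
  · subst hi; simp [d, Ne.symm hi₁]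
  · simp [hi]

theorem lineStab_ne_top (hn : 2 ≤ n) (i₀ : Fin n) :
    suStab (q := q) (F ∙ Pi.single i₀ (1 : F)) ≠ ⊤ := fun htop => by
  obtain ⟨i₁, hi₁⟩ : ∃ i₁ : Fin n, i₁ ≠ i₀ := by
    haveI : Nontrivial (Fin n) := Fin.nontrivial_iff_two_le.2 hn
    exact exists_ne i₀
  obtain ⟨x, hx⟩ := exists_su_line hF hn (v := Pi.single i₁ 1) (by rw [H_single_single hF, if_pos rfl]; exact one_ne_zero) i₀
  have hm : x⁻¹ ∈ suStab (F ∙ Pi.single i₀ (1 : F)) := htop ▸ Subgroup.mem_top _
  have h1 : (Pi.single i₀ 1 : Vec) ∈ F ∙ Pi.single i₀ (1 : F) := Submodule.mem_span_singleton_self _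
  conv at h1 => arg 1; rw [← hx]
  obtain ⟨w, hw, e⟩ := h1
  have h2 := (mem_suStab.1 hm _).1 (Submodule.mem_span_singleton_self _)
  rw [inv_mulVec x e] at h2
  obtain ⟨c, rfl⟩ := Submodule.mem_span_singleton.1 hw
  obtain ⟨c', hc'⟩ := Submodule.mem_span_singleton.1 h2
  have h3 := congrFun hc' i₁
  simp [hi₁] at h3
  rw [← h3, zero_smul, map_zero] at e
  simpa using congrFun e i₀

end Cfsg.Agent.Classical.NormalCover.UStab
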