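import Mathlib
import Cfsg.Agent.Lib.Classical.NormalCover.UnitaryStab
import Cfsg.Agent.Lib.Classical.NormalCover.HermTools

/-!
# `PSU₄` is covered by two classes of subgroups
-/

set_option autoImplicit false
set_option linter.unusedSectionVars false

namespace Cfsg.Agent.Classical.NormalCover.UFour

open Matrix Cfsg.Agent.Classical.Unitary Cfsg.Agent.Forms

variable {F : Type*} [Field F] [Fintype F] {q : ℕ} (hF : Fintype.card F = q ^ 2)

local notation "Vec" => (Fin 4 → F)
local notation "H" => Cfsg.hermForm 4 F q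

/-- a totally isotropic plane invariant under `g` -/
def HasPlane (q : ℕ) (g : Cfsg.SU 4 F q) : Prop :=
  ∃ f : Fin 2 → Fin 4 → F, LinearIndependent F f ∧ (∀ i j, Cfsg.hermForm 4 F q (f i) (f j) = 0) ∧
    ∀ i, mat g *ᵥ f i ∈ Submodule.span F (Set.range f)

include hF

theorem hasPlane_of_pair (g : Cfsg.SU 4 F q) {e x : Vec} (he : e ≠ 0) (hx : ∀ c : F, c • e ≠ x)
    (hee : H e e = 0) (hxe : H x e = 0) (hxx : H x x = 0) (hge : mat g *ᵥ e ∈ Submodule.span F {e, x})
    (hgx : mat g *ᵥ x ∈ Submodule.span F {e, x}) : HasPlane q g := by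
  have hrange : Set.range ![e, x] = ({e, x} : Set Vec) := by
    simp [Matrix.range_cons, Matrix.range_empty, Set.pair_comm]
  refine ⟨![e, x], (LinearIndependent.pair_iff' he).2 hx, fun i j => ?_, fun i => ?_⟩
  · have hex : H e x = 0 := (H_eq_zero_comm hF).1 hxe
    fin_cases i <;> fin_cases j <;> assumption
  · rw [hrange]; fin_cases i <;> assumption

theorem key_eigen (g : Cfsg.SU 4 F q) {e : Vec} {l : F} (he : e ≠ 0) (hge : mat g *ᵥ e = l • e) (hee : H e e = 0) :
    (∃ v, H v v ≠ 0 ∧ ∃ c : F, mat g *ᵥ v = c • v) ∨ HasPlane q g := by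
  classical
  have hl : l ≠ 0 := fun h => he (by
    rw [h, zero_smul] at hge
    rw [← inv_mulVec g hge, Matrix.mulVec_zero])
  have hlq : ∀ {c : F}, c ≠ 0 → c ^ q ≠ 0 := fun hc => pow_ne_zero q hc
  obtain ⟨f, hf⟩ : ∃ f, H e f = 1 := by
    by_contra hcon
    push Not at hcon
    refine he (eq_zero_of_H hF fun v => ?_)
    by_contra hv
    exact hcon ((H e v)⁻¹ ^ q • v) (by rw [H_smul_right, pow_qq hF, inv_mul_cancel₀ hv])
  have hfe : H f e = 1 := by rw [← H_conj hF, hf, one_pow]
  let L : Vec →ₗ[F] F × F := (hlin q e).prod (hlin q f)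
  let U : Submodule F Vec := LinearMap.ker L
  have hU : ∀ {u}, u ∈ U ↔ H u e = 0 ∧ H u f = 0 := fun {u} => by simp [U, L]
  have hLs : Function.Surjective L := fun ⟨a, b⟩ => ⟨a • f + (b - a * H f f) • e, by
    simp [L, H_add_left, H_smul_left, hee, hfe, hf]⟩
  have hUdim : Module.finrank F U = 2 := by
    have h1 := LinearMap.finrank_range_add_finrank_ker L
    rw [LinearMap.range_eq_top.2 hLs, finrank_top, Module.finrank_prod, Module.finrank_self,
      Module.finrank_fintype_fun_eq_card, Fintype.card_fin] at h1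
    show Module.finrank F (LinearMap.ker L) = 2
    omega
  let P : Vec →ₗ[F] Vec := Matrix.mulVecLin (mat g) -
    (LinearMap.toSpanSingleton F Vec e).comp ((hlin q f).comp (Matrix.mulVecLin (mat g)))
  have hP : ∀ u, P u = mat g *ᵥ u - H (mat g *ᵥ u) f • e := fun u => rfl
  have hge' : ∀ u, H u e = 0 → H (mat g *ᵥ u) e = 0 := fun u hu => by
    have h1 := SU_H g u e
    rw [hge, H_smul_right, hu] at h1
    exact (mul_eq_zero.1 h1).resolve_left (hlq hl)
  have hPU : ∀ u ∈ U, P u ∈ U := fun u hu => hU.2 ⟨by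
    rw [hP, H_sub_left, H_smul_left, hee, mul_zero, sub_zero, hge' u (hU.1 hu).1], by
    rw [hP, H_sub_left, H_smul_left, hf, mul_one, sub_self]⟩
  let T : Module.End F U := P.restrict hPU
  have hT : ∀ u : U, (T u : Vec) = mat g *ᵥ (u : Vec) - H (mat g *ᵥ (u : Vec)) f • e := fun u => rfl
  let B : U →ₛₗ[HermStd.qHom hF] U →ₗ[F] F := (HermStd.hermB hF 4).domRestrict₁₂ U U
  have hBapp : ∀ u v : U, B u v = H (v : Vec) (u : Vec) := fun u v => rfl
  have hTiso : ∀ u v : U, B (T v) (T u) = B v u := fun u v => by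
    have a := hge' _ (hU.1 u.2).1
    have b := (H_eq_zero_comm hF).1 (hge' _ (hU.1 v.2).1)
    rw [hBapp, hBapp, hT, hT, H_sub_left, H_sub_right hF, H_sub_right hF, H_smul_left, H_smul_left, H_smul_right,
      H_smul_right, hee, a, b, SU_H]
    ring
  have hBnd : ∀ y : U, (∀ x, B y x = 0) → y = 0 := fun y hy => Subtype.ext <| eq_zero_of_H hF fun v => by
    have hu : v - H v e • f - (H v f - H v e * H f f) • e ∈ U := hU.2 ⟨by
      simp only [H_sub_left, H_smul_left, hee, hfe]; ring, by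
      simp only [H_sub_left, H_smul_left, hf]; ring⟩
    have h1 := hy ⟨_, hu⟩
    rw [hBapp] at h1
    simp only [H_sub_left, H_smul_left, (H_eq_zero_comm hF).1 (hU.1 y.2).1,
      (H_eq_zero_comm hF).1 (hU.1 y.2).2, mul_zero, sub_zero] at h1
    exact (H_eq_zero_comm hF).1 h1
  have hnondeg : ∀ (w : Vec) (m a : F), w ∈ U → H w w ≠ 0 → mat g *ᵥ w = m • w + a • e → m ≠ l →
      ∃ v, H v v ≠ 0 ∧ ∃ c : F, mat g *ᵥ v = c • v := fun w m a hw hww hgw hml => by
    have h0 : H e w = 0 := (H_eq_zero_comm hF).1 (hU.1 hw).1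
    refine ⟨w + (a / (m - l)) • e, ?_, m, ?_⟩
    · rw [H_add_left, H_add_right hF, H_add_right hF, H_smul_left, H_smul_left, H_smul_right, H_smul_right,
        (hU.1 hw).1, h0, hee]
      simpa using hww
    · rw [Matrix.mulVec_add, Matrix.mulVec_smul, hgw, hge, smul_add, smul_smul, smul_smul, add_assoc, ← add_smul]
      congr 2
      field_simp [sub_ne_zero.2 hml]
      ring
  have hnote : ∀ x ∈ U, x ≠ 0 → ∀ c : F, c • e ≠ x := fun x hx hx0 c hc => by
    have := (hU.1 hx).2
    rw [← hc, H_smul_left, hf, mul_one] at this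
    exact hx0 (by rw [← hc, this, zero_smul])
  have hplane : ∀ (x : Vec) (m a : F), x ∈ U → x ≠ 0 → H x x = 0 → mat g *ᵥ x = m • x + a • e → HasPlane q g :=
    fun x m a hx hx0 hxx hgx => hasPlane_of_pair hF g he (hnote x hx hx0) hee (hU.1 hx).1 hxx
      (by rw [hge]; exact Submodule.smul_mem _ _ (Submodule.subset_span (Set.mem_insert e {x})))
      (by rw [hgx]; exact Submodule.add_mem _
            (Submodule.smul_mem _ _ (Submodule.subset_span (Set.mem_insert_of_mem e (Set.mem_singleton x))))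
            (Submodule.smul_mem _ _ (Submodule.subset_span (Set.mem_insert e {x}))))
  have hlift : ∀ (u : U) (m : F), T u = m • u →
      mat g *ᵥ (u : Vec) = m • (u : Vec) + H (mat g *ᵥ (u : Vec)) f • e := fun u m h => by
    have := hT u
    rw [h, Submodule.coe_smul] at this
    rw [this, sub_add_cancel]
  obtain ⟨y, hy0, m, hy⟩ := Herm.exists_eigen_plane hF B hBnd hTiso hUdim
  have hy0' : (y : Vec) ≠ 0 := fun h => hy0 (Subtype.ext h)
  by_cases hyy : H (y : Vec) y = 0
  · exact Or.inr (hplane y m _ y.2 hy0' hyy (hlift y m hy))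
  by_cases hml : m = l
  swap
  · exact Or.inl (hnondeg y m _ y.2 hyy (hlift y m hy) hml)
  subst hml
  obtain ⟨z, hz, hz0⟩ := Submodule.exists_mem_ne_zero_of_ne_bot
    (LinearMap.ker_ne_bot_of_finrank_lt (f := B y) (by rw [Module.finrank_self, hUdim]; norm_num))
  rw [LinearMap.mem_ker, hBapp] at hz
  have hind : LinearIndependent F ![y, z] := (LinearIndependent.pair_iff' hy0).2 fun c hc => by
    rw [← hc, Submodule.coe_smul, H_smul_left] at hz
    exact hz0 (by rw [← hc, (mul_eq_zero.1 hz).resolve_right hyy, zero_smul])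
  have hspan := hind.span_eq_top_of_card_eq_finrank (by simp [hUdim])
  obtain ⟨a, b, hab⟩ : ∃ a b : F, T z = a • y + b • z := by
    have h1 : T z ∈ Submodule.span F (Set.range ![y, z]) := by rw [hspan]; trivial
    rw [Matrix.range_cons, Matrix.range_cons, Matrix.range_empty, Set.union_empty, Set.singleton_union] at h1
    obtain ⟨a, b, h⟩ := Submodule.mem_span_pair.1 h1
    exact ⟨a, b, h.symm⟩
  have ha : a = 0 := by
    have h1 := hTiso z y
    rw [hy, hab, hBapp, hBapp, hz, Submodule.coe_smul, Submodule.coe_add, Submodule.coe_smul, Submodule.coe_smul,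
      H_smul_right, H_add_left, H_smul_left, H_smul_left, hz, mul_zero, add_zero] at h1
    exact (mul_eq_zero.1 ((mul_eq_zero.1 h1).resolve_left (hlq hl))).resolve_right hyy
  rw [ha, zero_smul, zero_add] at hab
  have hzz : H (z : Vec) z ≠ 0 := fun h0 => hz0 <| hBnd z fun x => by
    obtain ⟨s, t, hst⟩ : ∃ s t : F, x = s • y + t • z := by
      have h1 : x ∈ Submodule.span F (Set.range ![y, z]) := by rw [hspan]; trivial
      rw [Matrix.range_cons, Matrix.range_cons, Matrix.range_empty, Set.union_empty, Set.singleton_union] at h1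
      obtain ⟨s, t, h⟩ := Submodule.mem_span_pair.1 h1
      exact ⟨s, t, h.symm⟩
    rw [hBapp, hst, Submodule.coe_add, Submodule.coe_smul, Submodule.coe_smul, H_add_left, H_smul_left,
      H_smul_left, h0, (H_eq_zero_comm hF).1 hz, mul_zero, mul_zero, add_zero]
  by_cases hbl : b = m
  swap
  · exact Or.inl (hnondeg z b _ z.2 hzz (hlift z b hab) hbl)
  subst hbl
  have hfix : (-(H (y : Vec) y / H (z : Vec) z)) ^ q = -(H (y : Vec) y / H (z : Vec) z) := by
    rw [← HermStd.qHom_apply hF, map_neg, map_div₀, HermStd.qHom_apply, HermStd.qHom_apply, H_conj hF, H_conj hF]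
  obtain ⟨t, ht⟩ := UnitaryCount.exists_norm_eq' hF hfix
  refine Or.inr (hplane ((y + t • z : U) : Vec) b _ (y + t • z).2 (fun h => ?_) ?_
    (hlift (y + t • z) b (by rw [map_add, map_smul, hy, hab, smul_add, smul_comm])))
  · have h' : y + t • z = 0 := Subtype.ext h
    exact one_ne_zero (α := F) ((LinearIndependent.pair_iff.1 hind 1 t (by rw [one_smul]; exact h')).1)
  · rw [Submodule.coe_add, Submodule.coe_smul, H_add_left, H_add_right hF, H_add_right hF, H_smul_left,
      H_smul_left, H_smul_right, H_smul_right, hz, (H_eq_zero_comm hF).1 hz]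
    have h5 : t * t ^ q = -(H (y : Vec) y / H (z : Vec) z) := by rw [← ht, pow_succ']
    linear_combination (H (z : Vec) z) * h5 - (div_mul_cancel₀ (H (y : Vec) y) hzz)

theorem key (g : Cfsg.SU 4 F q) :
    (∃ v, H v v ≠ 0 ∧ ∃ c : F, mat g *ᵥ v = c • v) ∨ HasPlane q g := by
  by_cases hex : ∃ v : Vec, v ≠ 0 ∧ ∃ c : F, mat g *ᵥ v = c • v
  · obtain ⟨v, hv, c, hc⟩ := hex
    by_cases hvv : H v v = 0
    · exact key_eigen hF g hv hc hvv
    · exact Or.inl ⟨v, hvv, c, hc⟩
  push Not at hex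
  right
  obtain ⟨v, a, b, hv, hTT, h1, h2, h3⟩ := Herm.exists_ti_plane hF (HermStd.hermB hF 4)
    (fun y hy => eq_zero_of_H hF fun v => (H_eq_zero_comm hF).1 (hy v))
    (T := Matrix.mulVecLin (mat g)) (fun x y => SU_H g x y)
    (by rw [Module.finrank_fintype_fun_eq_card, Fintype.card_fin]) hex
  simp only [Matrix.mulVecLin_apply, HermStd.hermB_apply] at hTT h1 h2 h3
  refine hasPlane_of_pair hF g hv (x := mat g *ᵥ v) (fun c hc => hex v hv c hc.symm) h1 h2
    (by rw [SU_H]; exact h1) (Submodule.subset_span (Set.mem_insert_of_mem v (Set.mem_singleton _))) ?_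
  rw [hTT]
  exact Submodule.mem_span_pair.2 ⟨a, b, rfl⟩

theorem exists_su_plane {f g : Fin 2 → Vec} (hf : LinearIndependent F f) (hg : LinearIndependent F g)
    (hf0 : ∀ i j, H (f i) (f j) = 0) (hg0 : ∀ i j, H (g i) (g j) = 0) :
    ∃ x : Cfsg.SU 4 F q, (Submodule.span F (Set.range f)).map (Matrix.mulVecLin (mat x)) =
      Submodule.span F (Set.range g) := by
  obtain ⟨A, hA⟩ := HermStab.exists_move_tuple hF hf hg hf0 hg0
  set W := Submodule.span F (Set.range g)
  have hdet : (gmat A).det ^ (q + 1) = 1 := HermStd.det_norm hF _ A.2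
  obtain ⟨D, hD, hDd⟩ := HermStab.exists_det hF (n := 4) (by norm_num) W (HermStab.span_iso hF hg0)
    (δ := ((gmat A).det)⁻¹) (by rw [inv_pow, hdet, inv_one])
  have hA0 : (gmat A).det ≠ 0 := fun e => by
    rw [e, zero_pow (Nat.succ_ne_zero q)] at hdet; exact zero_ne_one hdet
  refine ⟨suOfGU (D * A) (by rw [gmat_mul, Matrix.det_mul, hDd, inv_mul_cancel₀ hA0]), ?_⟩
  have hfun : (fun i => gmat A *ᵥ f i) = g := funext hA
  show (Submodule.span F (Set.range f)).map (Matrix.mulVecLin (gmat (D * A))) = W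
  rw [gmat_mul, Matrix.mulVecLin_mul, Submodule.map_comp, Submodule.map_span, ← Set.range_comp]
  have hAW : Submodule.span F (Set.range (Matrix.mulVecLin (gmat A) ∘ f)) = W := by
    rw [show (Matrix.mulVecLin (gmat A) ∘ f) = g from hfun]
  rw [hAW]
  refine le_antisymm ?_ fun v hv => ?_
  · rintro _ ⟨v, hv, rfl⟩
    exact (HermStab.mem_guStab.1 hD v).1 hv
  · exact ⟨gmat D⁻¹ *ᵥ v, (HermStab.mem_guStab.1 hD _).2 (by
      rw [← gmul_mulVec, mul_inv_cancel, gmat_one, Matrix.one_mulVec]; exact hv), by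
      rw [Matrix.mulVecLin_apply, ← gmul_mulVec, mul_inv_cancel, gmat_one, Matrix.one_mulVec]⟩

theorem coversTwo_PSU4 : CoversTwo (Cfsg.PSU 4 F q) := by
  classical
  have hq : q ≠ 0 := q_ne_zero hF
  obtain ⟨a, ha⟩ := UnitaryCount.exists_norm_eq hF (μ := (-1 : F)) (by simp)
    (by rw [← HermStd.qHom_apply hF, map_neg, map_one])
  have ha' : a * a ^ q = -1 := by rw [← pow_succ', ha]
  let f₀ : Fin 2 → Vec := ![![1, a, 0, 0], ![0, 0, 1, a]]
  let f₁ : Fin 2 → Vec := ![![1, 0, a, 0], ![0, 1, 0, a]]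
  have h0 : ∀ i j, H (f₀ i) (f₀ j) = 0 := fun i j => by
    fin_cases i <;> fin_cases j <;> simp [f₀, Cfsg.hermForm, Fin.sum_univ_four, hq, ha']
  have h1 : ∀ i j, H (f₁ i) (f₁ j) = 0 := fun i j => by
    fin_cases i <;> fin_cases j <;> simp [f₁, Cfsg.hermForm, Fin.sum_univ_four, hq, ha']
  have hl0 : LinearIndependent F f₀ := (LinearIndependent.pair_iff' (fun e => by simpa using congrFun e 0)).2
    fun c hc => by simpa using congrFun hc 2
  have hl1 : LinearIndependent F f₁ := (LinearIndependent.pair_iff' (fun e => by simpa using congrFun e 0)).2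
    fun c hc => by simpa using congrFun hc 1
  let e0 : Vec := Pi.single 0 1
  let Hs : Subgroup (Cfsg.SU 4 F q) := UStab.suStab (q := q) (F ∙ e0)
  let Ks : Subgroup (Cfsg.SU 4 F q) := UStab.suStab (q := q) (Submodule.span F (Set.range f₀))
  refine covers_quotient (G := Cfsg.SU 4 F q) (Subgroup.center (Cfsg.SU 4 F q)) Hs Ks
    (UStab.center_le hF (n := 4) (by norm_num) (F ∙ e0))
    (UStab.center_le hF (n := 4) (by norm_num) (Submodule.span F (Set.range f₀)))
    (UStab.lineStab_ne_top hF (n := 4) (by norm_num) 0) (fun htop => ?_) fun g => ?_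
  · obtain ⟨x, hx⟩ := exists_su_plane hF hl0 hl1 h0 h1
    have hm : (f₀ 0) ∈ Submodule.span F (Set.range f₀) := Submodule.subset_span ⟨0, rfl⟩
    have h2 : ∀ v ∈ Submodule.span F (Set.range f₁), v ∈ Submodule.span F (Set.range f₀) := by
      rw [← hx]
      rintro _ ⟨v, hv, rfl⟩
      exact (UStab.mem_suStab.1 (show x ∈ Ks by rw [htop]; trivial) v).1 hv
    have h3 := h2 _ (Submodule.subset_span ⟨0, rfl⟩)
    rw [show Set.range f₀ = {f₀ 0, f₀ 1} by simp [f₀, Matrix.range_cons, Matrix.range_empty, Set.pair_comm],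
      Submodule.mem_span_pair] at h3
    obtain ⟨c, d, hcd⟩ := h3
    have e0 := congrFun hcd 0
    have e1 := congrFun hcd 1
    simp [f₀, f₁] at e0 e1
    rw [e0] at e1
    rcases e1 with e1 | e1
    · exact one_ne_zero e1
    · rw [e1] at ha'; simp at ha'
  · rcases key hF g with ⟨v, hv, c, hc⟩ | ⟨f, hf, hf0, hgf⟩
    · obtain ⟨x, hx⟩ := UStab.exists_su_line hF (by norm_num) hv 0
      refine ⟨x, Or.inl (UStab.conj_mem hF (fun w hw => ?_) hx)⟩
      obtain ⟨t, rfl⟩ := Submodule.mem_span_singleton.1 hw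
      rw [Matrix.mulVec_smul, hc, smul_smul]
      exact Submodule.smul_mem _ _ (Submodule.mem_span_singleton_self v)
    · obtain ⟨x, hx⟩ := exists_su_plane hF hf hl0 hf0 h0
      refine ⟨x, Or.inr (UStab.conj_mem hF (fun w hw => ?_) hx)⟩
      induction hw using Submodule.span_induction with
      | mem u hu => obtain ⟨i, rfl⟩ := hu; exact hgf i
      | zero => rw [Matrix.mulVec_zero]; exact zero_mem _
      | add a b _ _ iha ihb => rw [Matrix.mulVec_add]; exact add_mem iha ihb
      | smul s u _ ih => rw [Matrix.mulVec_smul]; exact Submodule.smul_mem _ _ ih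

end Cfsg.Agent.Classical.NormalCover.UFour
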