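import Mathlib
import Cfsg.Agent.Lib.Classical.NormalCover.UnitaryStab
import Cfsg.Agent.Lib.Classical.NormalCover.HermTools
import Cfsg.Agent.Lib.Classical.NormalCover.HermCubic

/-!
# `PSU₃` in characteristic three is covered by two classes of subgroups
-/

set_option autoImplicit false
set_option linter.unusedSectionVars false

namespace Cfsg.Agent.Classical.NormalCover.UThree

open Matrix Module Polynomial Cfsg.Agent.Classical.Unitary Cfsg.Agent.Forms

variable {F : Type*} [Field F] [Fintype F] {q : ℕ} (hF : Fintype.card F = q ^ 2)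
variable {E : Type*} [Field E] [Algebra F E] [Finite E]

local notation "Vec" => (Fin 3 → F)
local notation "H" => Cfsg.hermForm 3 F q

include hF

/-- the involution of the cubic extension -/
noncomputable def bar (E : Type*) [Field E] [Algebra F E] : E →+* E :=
  let φ := (Herm.exists_pow_hom hF E).choose
  (φ.comp φ).comp φ

theorem bar_apply (x : E) : bar hF E x = x ^ (q ^ 3) := by
  have h := (Herm.exists_pow_hom hF E).choose_spec
  show (Herm.exists_pow_hom hF E).choose ((Herm.exists_pow_hom hF E).choose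
    ((Herm.exists_pow_hom hF E).choose x)) = _
  rw [h, h, h, ← pow_mul, ← pow_mul]
  ring_nf

theorem bar_algebraMap (c : F) : bar hF E (algebraMap F E c) = algebraMap F E (c ^ q) := by
  rw [bar_apply, ← map_pow, pow_succ q 2, ← hF, pow_mul, FiniteField.pow_card]

variable (hE : finrank F E = 3)

include hE

theorem card_ext : Nat.card E = (q ^ 3) ^ 2 := by
  rw [Module.natCard_eq_pow_finrank (K := F), Nat.card_eq_fintype_card, hF, hE, ← pow_mul, ← pow_mul]

theorem bar_bar (x : E) : bar hF E (bar hF E x) = x := by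
  haveI := Fintype.ofFinite E
  rw [bar_apply, bar_apply, ← pow_mul, ← pow_two, ← card_ext hF hE, Nat.card_eq_fintype_card, FiniteField.pow_card]

theorem trace_bar (z : E) : Algebra.trace F E (bar hF E z) = Algebra.trace F E z ^ q := by
  refine (algebraMap F E).injective ?_
  rw [← bar_algebraMap hF, FiniteField.algebraMap_trace_eq_sum_pow, FiniteField.algebraMap_trace_eq_sum_pow, map_sum]
  exact Finset.sum_congr rfl fun i _ => (map_pow _ _ _).symm

/-- the hermitian trace form -/
noncomputable def formE : E →ₛₗ[HermStd.qHom hF] E →ₗ[F] F :=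
  LinearMap.mk₂'ₛₗ (HermStd.qHom hF) (RingHom.id F) (fun y x => Algebra.trace F E (x * bar hF E y))
    (fun a b x => by rw [map_add, mul_add, map_add])
    (fun c a x => by
      rw [Algebra.smul_def, (bar hF E).map_mul, bar_algebraMap hF, mul_left_comm x, ← Algebra.smul_def, map_smul,
        HermStd.qHom_apply])
    (fun a x y => by rw [add_mul, map_add])
    (fun c a x => by rw [smul_mul_assoc, map_smul, RingHom.id_apply])

omit hE in
theorem formE_apply (x y : E) : formE hF y x = Algebra.trace F E (x * bar hF E y) := rfl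

theorem formE_symm (x y : E) : formE hF x y = formE hF y x ^ q := by
  rw [formE_apply, formE_apply, ← trace_bar hF hE, (bar hF E).map_mul, bar_bar hF hE, mul_comm]

/-- the Galois generator -/
noncomputable def frob : Module.End F E :=
  (FiniteField.frobeniusAlgEquivOfAlgebraic F E).toLinearMap

omit hE in
theorem frob_apply (x : E) : frob (F := F) x = x ^ Fintype.card F := rfl

theorem frob_frob_frob (x : E) : frob (F := F) (frob (F := F) (frob (F := F) x)) = x := by
  haveI := Fintype.ofFinite E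
  rw [frob_apply hF, frob_apply hF, frob_apply hF, ← pow_mul, ← pow_mul, hF]
  rw [show q ^ 2 * (q ^ 2 * q ^ 2) = (q ^ 3) ^ 2 by ring, ← card_ext hF hE, Nat.card_eq_fintype_card,
    FiniteField.pow_card]

theorem formE_frob (x y : E) : formE hF (frob (F := F) y) (frob (F := F) x) = formE hF y x := by
  rw [formE_apply, formE_apply, show bar hF E (frob (F := F) y) = frob (F := F) (bar hF E y) by
    rw [frob_apply hF, frob_apply hF, map_pow]]
  show Algebra.trace F E (FiniteField.frobeniusAlgEquivOfAlgebraic F E x *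
    FiniteField.frobeniusAlgEquivOfAlgebraic F E (bar hF E y)) = _
  rw [← map_mul, Algebra.trace_eq_of_algEquiv]

theorem sum_frob (x : E) :
    x + frob (F := F) x + frob (F := F) (frob (F := F) x) = algebraMap F E (Algebra.trace F E x) := by
  rw [FiniteField.algebraMap_trace_eq_sum_pow, hE, Nat.card_eq_fintype_card, Finset.sum_range_succ,
    Finset.sum_range_succ, Finset.sum_range_one, frob_apply hF, frob_apply hF, ← pow_mul, pow_zero, pow_one,
    pow_one, pow_two]

variable (h3 : (3 : F) = 0)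

include h3

/-- an orthonormal normal basis -/
theorem exists_frameE : ∃ Γ : (Fin 3 → F) ≃ₗ[F] E, (∀ a b, formE hF (Γ b) (Γ a) = H a b) ∧
    ∀ a, frob (F := F) (Γ a) = Γ ![a 2, a 0, a 1] := by
  haveI : FiniteDimensional F E := Module.Finite.of_finite
  refine HermCubic.cycle_frame hF h3 (formE hF) (formE_symm hF hE) hE _ (frob_frob_frob hF hE)
    (formE_frob hF hE) ?_
  obtain ⟨z, hz⟩ := Algebra.trace_surjective F E 1
  refine ⟨z, z, ?_⟩
  rw [sum_frob hF hE, hz, map_one, formE_apply, one_mul, trace_bar hF hE, hz, one_pow]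
  exact one_ne_zero

omit hF hE h3 [Fintype F] [Finite E] in
/-- maps that are multiplicative up to a scalar -/
def MulLike (T : Module.End F E) : Prop := ∀ e z, T (e * z) * T 1 = T e * T z

omit h3 hE [Fintype F] [Finite E] hF in
theorem MulLike.comp {S T : Module.End F E} (hS : MulLike S) (hT : MulLike T) (hS1 : S 1 ≠ 0) :
    MulLike (S * T) := fun e z => by
  have a := hS (T (e * z)) (T 1)
  have b := hS (T e) (T z)
  rw [hT e z] at a
  simp only [Module.End.mul_apply]
  rw [← a, b]

omit h3 hE [Fintype F] [Finite E] hF in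
theorem MulLike.symm {T : E ≃ₗ[F] E} (hT : MulLike T.toLinearMap) : MulLike T.symm.toLinearMap := fun e z => by
  have hT' : ∀ a b, T (a * b) * T 1 = T a * T b := hT
  apply T.injective
  refine mul_right_cancel₀ (b := T 1) (fun h => one_ne_zero (α := E) ((map_eq_zero_iff _ T.injective).1 h)) ?_
  show T (T.symm (e * z) * T.symm 1) * T 1 = T (T.symm e * T.symm z) * T 1
  rw [hT', hT']
  simp only [LinearEquiv.apply_symm_apply, mul_one]

/-- an element of the group seen on the field -/
noncomputable def onField (Φ : E ≃ₗ[F] (Fin 3 → F)) (g : Cfsg.SU 3 F q) : Module.End F E :=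
  Φ.symm.toLinearMap ∘ₗ Matrix.mulVecLin (mat g) ∘ₗ Φ.toLinearMap

omit hE h3 in
theorem onField_apply (Φ : E ≃ₗ[F] Vec) (g : Cfsg.SU 3 F q) (e : E) :
    onField Φ g e = Φ.symm (mat g *ᵥ Φ e) := rfl

omit hE h3 in
theorem onField_one (Φ : E ≃ₗ[F] Vec) : onField Φ (1 : Cfsg.SU 3 F q) = 1 := LinearMap.ext fun e => by
  rw [onField_apply hF, mat_one, Matrix.one_mulVec, LinearEquiv.symm_apply_apply, Module.End.one_apply]

omit hE h3 in
theorem onField_mul (Φ : E ≃ₗ[F] Vec) (g h : Cfsg.SU 3 F q) :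
    onField Φ (g * h) = onField Φ g * onField Φ h := LinearMap.ext fun e => by
  rw [Module.End.mul_apply, onField_apply hF, onField_apply hF, onField_apply hF, LinearEquiv.apply_symm_apply,
    mul_mulVec]

omit hE h3 in
theorem onField_inv_apply (Φ : E ≃ₗ[F] Vec) (g : Cfsg.SU 3 F q) (e : E) :
    onField Φ g⁻¹ (onField Φ g e) = e := by
  rw [← Module.End.mul_apply, ← onField_mul hF, inv_mul_cancel, onField_one hF, Module.End.one_apply]

/-- the normaliser of the field -/
noncomputable def fieldNorm (Φ : E ≃ₗ[F] (Fin 3 → F)) : Subgroup (Cfsg.SU 3 F q) where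
  carrier := {g | MulLike (onField Φ g)}
  one_mem' e z := by rw [onField_one hF]; simp
  mul_mem' {g h} hg hh := by
    show MulLike (onField Φ (g * h))
    rw [onField_mul hF]
    refine MulLike.comp hg hh fun e => one_ne_zero (α := E) ?_
    rw [← onField_inv_apply hF Φ g 1, e, map_zero]
  inv_mem' {g} hg := by
    let T : E ≃ₗ[F] E :=
      { onField Φ g with
        invFun := onField Φ g⁻¹
        left_inv := onField_inv_apply hF Φ g
        right_inv := fun e => by simpa using onField_inv_apply hF Φ g⁻¹ e }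
    exact MulLike.symm (T := T) hg

omit hE h3 in
theorem mem_fieldNorm {Φ : E ≃ₗ[F] Vec} {g : Cfsg.SU 3 F q} :
    g ∈ fieldNorm hF Φ ↔ MulLike (onField Φ g) := Iff.rfl

theorem center_le_fieldNorm (Φ : E ≃ₗ[F] Vec) :
    Subgroup.center (Cfsg.SU 3 F q) ≤ fieldNorm hF Φ := fun g hg => by
  obtain ⟨a, ha⟩ := (mem_center_iff hF (by norm_num) g).1 hg
  intro e z
  simp only [onField_apply hF, ha, Matrix.smul_mulVec, Matrix.one_mulVec, map_smul, LinearEquiv.symm_apply_apply]
  simp only [Algebra.smul_def]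
  ring

omit hE h3 in
theorem cube_inj (h3 : (3 : F) = 0) {a b : F} (h : a ^ 3 = b ^ 3) : a = b := by
  have : (a - b) ^ 3 = 0 := by linear_combination h + (-(a ^ 2 * b) + a * b ^ 2) * h3
  exact sub_eq_zero.1 (eq_zero_of_pow_eq_zero this)

theorem fieldNorm_ne_top (Φ : E ≃ₗ[F] Vec) : fieldNorm (q := q) hF Φ ≠ ⊤ := by
  intro htop
  classical
  obtain ⟨ζ, hζ, hζ1, -⟩ := exists_normOne_ne hF
  have hζ0 : ζ ≠ 0 := fun h => by simp [h] at hζ
  let d : Fin 3 → F := ![ζ, ζ⁻¹, 1]
  have hd : ∀ i, d i ^ (q + 1) = 1 := fun i => by fin_cases i <;> simp [d, hζ, inv_pow]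
  let D : Cfsg.SU 3 F q := suMk (Matrix.diagonal d)
    (by rw [Matrix.det_diagonal, Fin.prod_univ_three]; simp [d, hζ0]) (diag_preserves hF d hd)
  have hD : MulLike (onField Φ D) := (mem_fieldNorm hF).1 (htop ▸ Subgroup.mem_top D)
  set T := onField Φ D with hT
  have hT1 : T 1 ≠ 0 := fun e => one_ne_zero (α := E) (by rw [← onField_inv_apply hF Φ D 1, ← hT, e, map_zero])
  let τ : E →ₐ[F] E := AlgHom.ofLinearMap ((LinearMap.mulRight F (T 1)⁻¹).comp T)
    (by simp [hT1]) fun a b => by
      simp only [LinearMap.comp_apply, LinearMap.mulRight_apply]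
      field_simp
      linear_combination hD a b
  have hτ : ∀ e z, T (e * z) = τ e * T z := fun e z => by
    refine mul_right_cancel₀ hT1 ?_
    rw [hD e z]
    show _ = T e * (T 1)⁻¹ * T z * T 1
    field_simp
  haveI : FiniteDimensional F E := Module.Finite.of_finite
  let σ : E ≃ₐ[F] E := AlgEquiv.ofBijective τ (Algebra.IsAlgebraic.algHom_bijective τ)
  have hσ : ∀ e, σ (σ (σ e)) = e := fun e => by
    have h1 : σ ^ finrank F E = 1 := by
      rw [← IsGalois.card_aut_eq_finrank F E]; exact pow_card_eq_one'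
    rw [hE, pow_succ, pow_two] at h1
    exact DFunLike.congr_fun h1 e
  have hT3 : ∀ e z, T (T (T (e * z))) = e * T (T (T z)) := fun e z => by
    rw [hτ, hτ, hτ]
    congr 1
    exact hσ e
  have hTd : ∀ e, Φ (T e) = Matrix.diagonal d *ᵥ Φ e := fun e => by
    rw [hT, onField_apply hF, LinearEquiv.apply_symm_apply]; rfl
  have hfix : T (T (T (Φ.symm (Pi.single 2 1)))) = Φ.symm (Pi.single 2 1) := by
    have h1 : T (Φ.symm (Pi.single 2 1)) = Φ.symm (Pi.single 2 1) := by
      apply Φ.injective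
      rw [hTd, LinearEquiv.apply_symm_apply]
      ext i; fin_cases i <;> simp [Matrix.mulVec_diagonal, d]
    rw [h1, h1, h1]
  have hz0 : Φ.symm (Pi.single 2 1) ≠ 0 := by simp
  have hc : T (T (T 1)) = 1 := by
    have h1 := hT3 (Φ.symm (Pi.single 2 1)) 1
    rw [mul_one, hfix] at h1
    exact (mul_right_eq_self₀.1 h1.symm).resolve_right hz0
  have hall := hT3 (Φ.symm (Pi.single 0 1)) 1
  rw [mul_one, hc, mul_one] at hall
  have h0 := congrFun (congrArg Φ hall) 0
  simp only [hTd, LinearEquiv.apply_symm_apply, Matrix.mulVec_diagonal] at h0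
  simp [d] at h0
  exact hζ1 (cube_inj hF h3 (by rw [one_pow]; linear_combination h0))

/-- a conjugate of an element lies in the normaliser -/
theorem conj_mem_fieldNorm (Φ₀ Φ : E ≃ₗ[F] Vec)
    (h₀ : ∀ x y, H (Φ₀ x) (Φ₀ y) = formE hF y x) (h₁ : ∀ x y, H (Φ x) (Φ y) = formE hF y x)
    (g : Cfsg.SU 3 F q) (hg : MulLike (onField Φ g)) :
    ∃ x : Cfsg.SU 3 F q, x * g * x⁻¹ ∈ fieldNorm hF Φ₀ := by
  let X := HermStd.guOfEquiv (q := q) (Φ.symm.trans Φ₀) fun u v => by
    simp only [LinearEquiv.trans_apply]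
    rw [h₀, ← h₁, LinearEquiv.apply_symm_apply, LinearEquiv.apply_symm_apply]
  have hX : ∀ v, gmat X *ᵥ v = Φ₀ (Φ.symm v) := fun v => HermStd.guOfEquiv_mulVec _ _ v
  have hdet : (gmat X).det ^ (q + 1) = 1 := HermStd.det_norm hF _ X.2
  have hd0 : (gmat X).det ≠ 0 := fun e => by
    rw [e, zero_pow (Nat.succ_ne_zero q)] at hdet; exact zero_ne_one hdet
  obtain ⟨c, hc⟩ := ((Finite.injective_iff_surjective (f := fun a : F => a ^ 3)).1 fun a b => cube_inj hF h3)
    ((gmat X).det)⁻¹
  simp only at hc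
  have hcc : c ^ (q + 1) = 1 := cube_inj hF h3 (by
    rw [← pow_mul, mul_comm, pow_mul, hc, inv_pow, hdet, inv_one, one_pow])
  let x : Cfsg.SU 3 F q := suMk (c • gmat X)
    (by rw [Matrix.det_smul, Fintype.card_fin, hc, inv_mul_cancel₀ hd0])
    (fun u v => by
      rw [Matrix.smul_mulVec, Matrix.smul_mulVec, H_smul_left, H_smul_right, GU_H, ← mul_assoc, ← pow_succ', hcc,
        one_mul])
  have hx : ∀ e, mat x *ᵥ Φ e = c • Φ₀ e := fun e => by
    show (c • gmat X) *ᵥ Φ e = _
    rw [Matrix.smul_mulVec, hX, LinearEquiv.symm_apply_apply]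
  refine ⟨x, ?_⟩
  have hc0 : c ≠ 0 := fun e => by rw [e, zero_pow (Nat.succ_ne_zero q)] at hcc; exact zero_ne_one hcc
  have key : ∀ e, onField Φ₀ (x * g * x⁻¹) e = onField Φ g e := fun e => by
    rw [onField_apply hF, onField_apply hF, mul_mulVec, mul_mulVec]
    have h1 : mat x⁻¹ *ᵥ Φ₀ e = c⁻¹ • Φ e := inv_mulVec x (by
      rw [Matrix.mulVec_smul, hx, inv_smul_smul₀ hc0])
    rw [h1, Matrix.mulVec_smul, Matrix.mulVec_smul, ← Φ.apply_symm_apply (mat g *ᵥ Φ e), hx, inv_smul_smul₀ hc0,
      LinearEquiv.apply_symm_apply, LinearEquiv.symm_apply_apply]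
  show MulLike _
  intro e z
  rw [key, key, key, key]
  exact hg e z

/-- the case of an eigenvector without non-degenerate one -/
theorem field_of_eigen (g : Cfsg.SU 3 F q) (hno : ∀ v : Vec, H v v ≠ 0 → ∀ c : F, mat g *ᵥ v ≠ c • v)
    {e : Vec} {l : F} (he : e ≠ 0) (hge : mat g *ᵥ e = l • e) :
    ∃ Φ : E ≃ₗ[F] Vec, (∀ x y, H (Φ x) (Φ y) = formE hF y x) ∧ MulLike (onField Φ g) := by
  have hee : H e e = 0 := by
    by_contra h; exact hno e h l hge
  have hl : l ≠ 0 := fun h => he (by
    rw [h, zero_smul] at hge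
    rw [← inv_mulVec g hge, Matrix.mulVec_zero])
  obtain ⟨f, hf⟩ : ∃ f, H e f = 1 := by
    by_contra hcon
    push Not at hcon
    refine he (eq_zero_of_H hF fun v => ?_)
    by_contra hv
    exact hcon ((H e v)⁻¹ ^ q • v) (by rw [H_smul_right, pow_qq hF, inv_mul_cancel₀ hv])
  have hfe : H f e = 1 := by rw [← H_conj hF, hf, one_pow]
  let L : Vec →ₗ[F] F × F := (hlin q e).prod (hlin q f)
  let U : Submodule F Vec := LinearMap.ker L
  have hU : ∀ {u}, u ∈ U ↔ H u e = 0 ∧ H u f = 0 := fun {u} => by simp [U, L]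
  have hLs : Function.Surjective L := fun ⟨a, b⟩ => ⟨a • f + (b - a * H f f) • e, by
    simp [L, H_add_left, H_smul_left, hee, hfe, hf]⟩
  have hUdim : Module.finrank F U = 1 := by
    have h1 := LinearMap.finrank_range_add_finrank_ker L
    rw [LinearMap.range_eq_top.2 hLs, finrank_top, Module.finrank_prod, Module.finrank_self,
      Module.finrank_fintype_fun_eq_card, Fintype.card_fin] at h1
    show Module.finrank F (LinearMap.ker L) = 1
    omega
  obtain ⟨y, hy, hy0⟩ := Submodule.exists_mem_ne_zero_of_ne_bot (p := U) fun h => by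
    rw [h, finrank_bot] at hUdim; exact zero_ne_one hUdim
  have hperp : ∀ v, H v e = 0 → ∃ r : F, v = r • y + H v f • e := fun v hv => by
    have hm : v - H v f • e ∈ U := hU.2 ⟨by rw [H_sub_left, H_smul_left, hee, hv, mul_zero, sub_zero], by
      rw [H_sub_left, H_smul_left, hf, mul_one, sub_self]⟩
    obtain ⟨r, hr⟩ := exists_smul_eq_of_finrank_eq_one hUdim (x := (⟨y, hy⟩ : U))
      (fun h => hy0 (congrArg Subtype.val h)) ⟨_, hm⟩
    exact ⟨r, by rw [show r • y = v - H v f • e from congrArg Subtype.val hr, sub_add_cancel]⟩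
  have hye : H e y = 0 := (H_eq_zero_comm hF).1 (hU.1 hy).1
  have hyy : H y y ≠ 0 := fun h => hy0 <| eq_zero_of_H hF fun v => by
    have hv : H (v - H v e • f) e = 0 := by rw [H_sub_left, H_smul_left, hfe, mul_one, sub_self]
    obtain ⟨r, hr⟩ := hperp _ hv
    rw [show v = r • y + H (v - H v e • f) f • e + H v e • f by rw [← hr, sub_add_cancel], H_add_right hF,
      H_add_right hF, H_smul_right, H_smul_right, H_smul_right, h, (hU.1 hy).1, (hU.1 hy).2]
    simp
  have hgperp : ∀ v, H (mat g *ᵥ v) e * l ^ q = H v e := fun v => by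
    rw [← SU_H g v e, hge, H_smul_right, mul_comm]
  have hgye : H (mat g *ᵥ y) e = 0 := by
    have h1 := hgperp y
    rw [(hU.1 hy).1] at h1
    exact (mul_eq_zero.1 h1).resolve_right (pow_ne_zero q hl)
  obtain ⟨m, hm⟩ := hperp _ hgye
  set a := H (mat g *ᵥ y) f
  have hml : m = l := by
    by_contra hml
    refine hno (y + (a / (m - l)) • e) ?_ m ?_
    · rw [H_add_left, H_add_right hF, H_add_right hF, H_smul_left, H_smul_left, H_smul_right, H_smul_right,
        (hU.1 hy).1, hye, hee]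
      simpa using hyy
    · rw [Matrix.mulVec_add, Matrix.mulVec_smul, hm, hge, smul_add, smul_smul, smul_smul, add_assoc, ← add_smul]
      congr 2
      field_simp [sub_ne_zero.2 hml]
      ring
  subst hml
  have ha : a ≠ 0 := fun h => hno y hyy m (by rw [hm, h, zero_smul, add_zero])
  have hnorm : m * m ^ q = 1 := by
    have h1 := SU_H g y y
    rw [hm, H_add_left, H_add_right hF, H_add_right hF, H_smul_left, H_smul_left, H_smul_right, H_smul_right,
      H_smul_left, H_smul_right, H_smul_left, H_smul_right, (hU.1 hy).1, hye, hee] at h1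
    simp only [mul_zero, add_zero] at h1
    exact mul_right_cancel₀ hyy (by linear_combination h1)
  let u : Module.End F Vec := m⁻¹ • Matrix.mulVecLin (mat g)
  have hu : ∀ v, u v = m⁻¹ • (mat g *ᵥ v) := fun v => rfl
  let N : Module.End F Vec := u - 1
  have hN : ∀ v, N v = u v - v := fun v => rfl
  have hiso : ∀ x z, HermStd.hermB hF 3 (u z) (u x) = HermStd.hermB hF 3 z x := fun x z => by
    rw [HermStd.hermB_apply, HermStd.hermB_apply, hu, hu, H_smul_left, H_smul_right, SU_H, ← mul_assoc,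
      inv_pow, ← mul_inv, hnorm, inv_one, one_mul]
  have hNe : N e = 0 := by rw [hN, hu, hge, inv_smul_smul₀ hl, sub_self]
  have hNy : N y = (m⁻¹ * a) • e := by
    rw [hN, hu, hm, smul_add, inv_smul_smul₀ hl, add_sub_cancel_left, smul_smul]
  have hNperp : ∀ v, H (N v) e = 0 := fun v => by
    have h1 := hgperp v
    rw [hN, H_sub_left, hu, H_smul_left, sub_eq_zero]
    rw [← h1]
    field_simp
    linear_combination (-(H (mat g *ᵥ v) e)) * hnorm
  have hNN : ∀ v, ∃ r, N v = r • y + H (N v) f • e ∧ N (N v) = (r * (m⁻¹ * a)) • e := fun v => by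
    obtain ⟨r, hr⟩ := hperp _ (hNperp v)
    refine ⟨r, hr, ?_⟩
    conv_lhs => rw [hr]
    rw [map_add, map_smul, map_smul, hNy, hNe, smul_zero, add_zero, smul_smul]
  have hN3 : ∀ v, N (N (N v)) = 0 := fun v => by
    obtain ⟨r, -, h⟩ := hNN v
    rw [h, map_smul, hNe, smul_zero]
  have h3' : ∀ x : Vec, (3 : F) • x = 0 := fun x => by rw [h3, zero_smul]
  have hu3 : ∀ v, u (u (u v)) = v := fun v => by
    have h := hN3 v
    simp only [hN, map_sub] at h
    have e3 := h3' (u (u v) - u v)
    rw [show (3 : F) = 1 + 1 + 1 by norm_num, add_smul, add_smul, one_smul] at e3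
    rw [← sub_eq_zero]
    conv_rhs => rw [← h]
    rw [← sub_eq_zero]
    conv_rhs => rw [← e3]
    abel
  have hMN : ∀ v, v + u v + u (u v) = N (N v) := fun v => by
    have e3 := h3' (u v)
    rw [show (3 : F) = 1 + 1 + 1 by norm_num, add_smul, add_smul, one_smul] at e3
    simp only [hN, map_sub]
    rw [← sub_eq_zero]
    conv_rhs => rw [← e3]
    abel
  have hM : ∃ x z, HermStd.hermB hF 3 z (x + u x + u (u x)) ≠ 0 := by
    refine ⟨f, ?_⟩
    by_contra hcon
    push Not at hcon
    have h0 : N (N f) = 0 := eq_zero_of_H hF fun v => by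
      have := hcon v
      rwa [hMN, HermStd.hermB_apply] at this
    obtain ⟨r, hr, hr'⟩ := hNN f
    rw [h0, eq_comm, smul_eq_zero] at hr'
    have hr0 : r = 0 := ((mul_eq_zero.1 (hr'.resolve_right he)).resolve_right (mul_ne_zero (inv_ne_zero hl) ha))
    rw [hr0, zero_smul, zero_add] at hr
    have h1 := hiso y f
    rw [HermStd.hermB_apply, HermStd.hermB_apply, show u y = y + N y by rw [hN]; abel,
      show u f = f + N f by rw [hN]; abel, hNy, hr, H_add_left, H_add_right hF, H_add_right hF, H_smul_left,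
      H_smul_left, H_smul_right, H_smul_right, (hU.1 hy).1, hf, hee, (hU.1 hy).2] at h1
    simp at h1
    exact h1.elim hl ha
  obtain ⟨ΓE, hΓE, hΓEs⟩ := exists_frameE hF hE h3
  obtain ⟨Γ, hΓ, hΓu⟩ := HermCubic.cycle_frame hF h3 (HermStd.hermB hF 3)
    (fun x y => by rw [HermStd.hermB_apply, HermStd.hermB_apply, H_conj hF])
    (by rw [Module.finrank_fintype_fun_eq_card, Fintype.card_fin]) u hu3 hiso hM
  refine ⟨ΓE.symm.trans Γ, fun x z => ?_, ?_⟩
  · rw [LinearEquiv.trans_apply, LinearEquiv.trans_apply]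
    conv_rhs => rw [← ΓE.apply_symm_apply x, ← ΓE.apply_symm_apply z, hΓE]
    exact hΓ _ _
  · have key : ∀ e, onField (ΓE.symm.trans Γ) g e = m • frob (F := F) e := fun e => by
      rw [onField_apply hF]
      rw [show mat g *ᵥ (ΓE.symm.trans Γ) e = m • u ((ΓE.symm.trans Γ) e) by rw [hu, smul_inv_smul₀ hl],
        map_smul]
      congr 1
      simp only [LinearEquiv.trans_apply, LinearEquiv.symm_trans_apply, hΓu, LinearEquiv.symm_apply_apply,
        LinearEquiv.symm_symm]
      rw [← hΓEs, LinearEquiv.apply_symm_apply]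
    intro x z
    simp only [key, frob_apply hF, mul_pow, one_pow, Algebra.smul_def]
    ring

/-- the case of an irreducible characteristic polynomial -/
theorem field_of_irreducible (g : Cfsg.SU 3 F q) (hno : ∀ v : Vec, v ≠ 0 → ∀ c : F, mat g *ᵥ v ≠ c • v) :
    ∃ Φ : E ≃ₗ[F] Vec, (∀ x y, H (Φ x) (Φ y) = formE hF y x) ∧ MulLike (onField Φ g) := by
  classical
  haveI : FiniteDimensional F E := Module.Finite.of_finite
  haveI := Fintype.ofFinite E
  let T : Module.End F Vec := Matrix.mulVecLin (mat g)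
  let B := HermStd.hermB hF 3
  have hBnd : ∀ y, (∀ x, B y x = 0) → y = 0 := fun y hy =>
    eq_zero_of_H hF fun v => (H_eq_zero_comm hF).1 (hy v)
  obtain ⟨S, hTS, hST, hadj⟩ := Herm.exists_adjoint hF B hBnd (T := T) (fun x y => SU_H g x y)
  have hd : T.charpoly.natDegree = 3 := by
    rw [LinearMap.charpoly_natDegree, Module.finrank_fintype_fun_eq_card, Fintype.card_fin]
  set χ := T.charpoly with hχ
  have hirr : Irreducible χ := Polynomial.irreducible_of_degree_le_three_of_not_isRoot
    (by rw [hd]; decide) fun c hc => by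
      obtain ⟨v, hv, he⟩ := Herm.exists_eigen_of_charpoly_root hF hc
      exact hno v hv c he
  haveI : Fact (Irreducible χ) := ⟨hirr⟩
  haveI : Module.Finite F (AdjoinRoot χ) := (AdjoinRoot.powerBasis hirr.ne_zero).finite
  haveI : Finite (AdjoinRoot χ) := Module.finite_of_finite F
  haveI := Fintype.ofFinite (AdjoinRoot χ)
  have hA : finrank F (AdjoinRoot χ) = 3 := by
    rw [(AdjoinRoot.powerBasis hirr.ne_zero).finrank, AdjoinRoot.powerBasis_dim, hd]
  set α := AdjoinRoot.root χ with hαdef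
  have hroot : aeval ((α ^ q)⁻¹) χ = 0 := by
    refine Herm.root_of_common_kernel hF hTS hST (y := (Pi.single 0 1 : Vec)) (by simp)
      (by rw [hχ, LinearMap.aeval_self_charpoly]; rfl) (hBnd _ fun x => ?_)
    rw [← Herm.adjoint_aeval hF B hadj, hχ, LinearMap.aeval_self_charpoly]
    simp
  obtain ⟨σ, hσα, hσσ, hσd⟩ := Herm.exists_sqrt_frob hF hroot
  have hbarα : bar hF (AdjoinRoot χ) α = α⁻¹ := by
    rw [hA, pow_succ, pow_two] at hσd
    have h1 : σ (σ (σ α)) = α := DFunLike.congr_fun hσd α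
    have h2 : σ α = α ^ (q ^ 4) := by
      conv_lhs => rw [← h1]
      rw [hσσ, hσσ, ← pow_mul, hF]
      congr 1
      ring
    rw [hσα] at h2
    have h4 := congrArg (fun z => z ^ (q ^ 5)) h2
    simp only [inv_pow, ← pow_mul] at h4
    rw [show q * q ^ 5 = (q ^ 3) ^ 2 by ring, show q ^ 4 * q ^ 5 = (q ^ 3) ^ 2 * q ^ 3 by ring, ← card_ext hF hA,
      Nat.card_eq_fintype_card, pow_mul, FiniteField.pow_card] at h4
    rw [bar_apply, h4]
  obtain ⟨ψ⟩ := FiniteField.nonempty_algHom_of_finrank_dvd (F := F) (K := E) (L := AdjoinRoot χ) (by rw [hE, hA])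
  have hψ : Function.Surjective ψ :=
    ((LinearMap.injective_iff_surjective_of_finrank_eq_finrank (f := ψ.toLinearMap) (by rw [hE, hA])).1
      ψ.toRingHom.injective)
  have hlift : aeval T (minpoly F (AdjoinRoot.powerBasis hirr.ne_zero).gen) = 0 := by
    rw [AdjoinRoot.powerBasis_gen, AdjoinRoot.minpoly_root hirr.ne_zero, map_mul, hχ,
      LinearMap.aeval_self_charpoly, zero_mul]
  let ιA := (AdjoinRoot.powerBasis hirr.ne_zero).lift T hlift
  have hια : ιA α = T := by
    rw [hαdef, ← AdjoinRoot.powerBasis_gen hirr.ne_zero]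
    exact PowerBasis.lift_gen _ _ _
  have hα0 : α ≠ 0 := fun h => by
    have e0 : T = 0 := by rw [← hια, h, map_zero]
    exact hno (Pi.single 0 1) (by simp) 0 (by rw [zero_smul]; exact LinearMap.congr_fun e0 _)
  have hιinv : ιA α⁻¹ = S := by
    calc ιA α⁻¹ = ιA α⁻¹ * (T * S) := by rw [hTS, mul_one]
      _ = S := by rw [← mul_assoc, ← hια, ← map_mul, inv_mul_cancel₀ hα0, map_one, one_mul]
  have hadjA : ∀ (a : AdjoinRoot χ) x y, B y (ιA a x) = B (ιA (bar hF _ a) y) x := fun a x y => by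
    obtain ⟨p, rfl⟩ := AdjoinRoot.mk_surjective a
    rw [← AdjoinRoot.aeval_eq, ← Polynomial.aeval_algHom_apply, ← hαdef, hια, Herm.adjoint_aeval hF B hadj,
      ← hιinv, Polynomial.aeval_algHom_apply, ← hbarα]
    congr 3
    rw [aeval_def, eval₂_map, aeval_def, hom_eval₂]
    congr 1
    congr 1
    exact RingHom.ext fun c => (bar_algebraMap hF c).symm
  let ι : E →ₐ[F] Module.End F Vec := ιA.comp ψ
  have hadjE : ∀ (a : E) x y, B y (ι a x) = B (ι (bar hF E a) y) x := fun a x y => by
    show B y (ιA (ψ a) x) = B (ιA (ψ (bar hF E a)) y) x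
    rw [hadjA, bar_apply, bar_apply, map_pow ψ]
  obtain ⟨α', hα'⟩ := hψ α
  let w₀ : Vec := Pi.single 0 1
  let Φ₁ : E →ₗ[F] Vec := (LinearMap.applyₗ w₀).comp ι.toLinearMap
  have hΦ₁ : ∀ z, Φ₁ z = ι z w₀ := fun z => rfl
  have hΦinj : ∀ z, Φ₁ z = 0 → z = 0 := fun z hz => by
    by_contra h
    have h1 : ι z⁻¹ (Φ₁ z) = w₀ := by
      rw [hΦ₁, ← Module.End.mul_apply, ← map_mul, inv_mul_cancel₀ h, map_one, Module.End.one_apply]
    rw [hz, map_zero] at h1
    simp [w₀, eq_comm] at h1
  obtain ⟨ε, hε⟩ := (LinearMap.BilinForm.toDual (Algebra.traceForm F E) (traceForm_nondegenerate F E)).surjective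
    ((B w₀).comp Φ₁)
  have hεL : ∀ z, Algebra.trace F E (ε * z) = B w₀ (ι z w₀) := fun z => by
    have := LinearMap.congr_fun hε z
    rwa [LinearMap.BilinForm.toDual_def, Algebra.traceForm_apply] at this
  have hεbar : bar hF E ε = ε := by
    refine sub_eq_zero.1 ((traceForm_nondegenerate F E).1 _ fun z => ?_)
    rw [Algebra.traceForm_apply, sub_mul, map_sub, sub_eq_zero]
    rw [show bar hF E ε * z = bar hF E (ε * bar hF E z) by rw [map_mul, bar_bar hF hE], trace_bar hF hE, hεL,
      hεL, hadjE, bar_bar hF hE, HermStd.hermB_apply, HermStd.hermB_apply, H_conj hF]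
  have hε0 : ε ≠ 0 := fun h => by
    have hw : w₀ = 0 := eq_zero_of_H hF fun v => by
      obtain ⟨z, rfl⟩ := LinearMap.injective_iff_surjective_of_finrank_eq_finrank (f := Φ₁)
        (by rw [hE, Module.finrank_fintype_fun_eq_card, Fintype.card_fin]) |>.1
        ((injective_iff_map_eq_zero _).2 hΦinj) v
      refine (H_eq_zero_comm hF).1 ?_
      have := hεL z
      rw [h, zero_mul, map_zero] at this
      exact this.symm
    simp [w₀] at hw
  obtain ⟨f, hf⟩ := UnitaryCount.exists_norm_eq (F := E) (q := q ^ 3)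
    (by rw [← Nat.card_eq_fintype_card, card_ext hF hE]) (μ := ε⁻¹) (inv_ne_zero hε0)
    (by rw [inv_pow, ← bar_apply hF, hεbar])
  have hf0 : f ≠ 0 := fun h => by
    rw [h, zero_pow (Nat.succ_ne_zero _)] at hf
    exact inv_ne_zero hε0 hf.symm
  let Φ₂ : E →ₗ[F] Vec := Φ₁.comp (LinearMap.mulLeft F f)
  have hinj : Function.Injective Φ₂ := (injective_iff_map_eq_zero _).2 fun z hz =>
    (mul_eq_zero.1 (hΦinj _ hz)).resolve_left hf0
  let Φ := LinearMap.linearEquivOfInjective Φ₂ hinj
    (by rw [hE, Module.finrank_fintype_fun_eq_card, Fintype.card_fin])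
  have hΦ : ∀ z, Φ z = ι (f * z) w₀ := fun z => LinearMap.linearEquivOfInjective_apply ..
  refine ⟨Φ, fun x y => ?_, fun x z => ?_⟩
  · rw [hΦ, hΦ, ← HermStd.hermB_apply hF, ← bar_bar hF hE (f * y), ← hadjE, ← Module.End.mul_apply, ← map_mul,
      ← hεL, formE_apply, (bar hF E).map_mul, bar_apply hF f]
    congr 1
    have hf' : f * f ^ (q ^ 3) = ε⁻¹ := by rw [← hf, ← pow_succ']
    linear_combination (ε * x * bar hF E y) * hf' + x * bar hF E y * mul_inv_cancel₀ hε0
  · have key : ∀ e, onField Φ g e = α' * e := fun e => by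
      rw [onField_apply hF, LinearEquiv.symm_apply_eq, hΦ, hΦ]
      show T (ι (f * e) w₀) = _
      rw [show T = ι α' by show T = ιA (ψ α'); rw [hα', hια], ← Module.End.mul_apply, ← map_mul, mul_left_comm]
    simp only [key]
    ring

/-- `PSU₃(q)`, `q` a power of three, is covered by two classes. -/
theorem coversTwo_PSU3 : CoversTwo (Cfsg.PSU 3 F q) := by
  classical
  obtain ⟨ΓE, hΓE, -⟩ := exists_frameE hF hE h3
  let Φ₀ := ΓE.symm
  have h₀ : ∀ x y, H (Φ₀ x) (Φ₀ y) = formE hF y x := fun x y => by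
    rw [← hΓE, LinearEquiv.apply_symm_apply, LinearEquiv.apply_symm_apply]
  let e0 : Vec := Pi.single 0 1
  refine covers_quotient (G := Cfsg.SU 3 F q) (Subgroup.center (Cfsg.SU 3 F q))
    (UStab.suStab (q := q) (F ∙ e0)) (fieldNorm (q := q) hF Φ₀)
    (UStab.center_le hF (n := 3) (by norm_num) (F ∙ e0)) (center_le_fieldNorm hF hE h3 Φ₀)
    (UStab.lineStab_ne_top hF (n := 3) (by norm_num) 0) (fieldNorm_ne_top hF hE h3 Φ₀) fun g => ?_
  by_cases h1 : ∃ v, H v v ≠ 0 ∧ ∃ c : F, mat g *ᵥ v = c • v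
  · obtain ⟨v, hv, c, hc⟩ := h1
    obtain ⟨x, hx⟩ := UStab.exists_su_line hF (by norm_num) hv 0
    refine ⟨x, Or.inl (UStab.conj_mem hF (fun w hw => ?_) hx)⟩
    obtain ⟨t, rfl⟩ := Submodule.mem_span_singleton.1 hw
    rw [Matrix.mulVec_smul, hc, smul_smul]
    exact Submodule.smul_mem _ _ (Submodule.mem_span_singleton_self v)
  push Not at h1
  obtain ⟨Φ, hΦ, hg⟩ : ∃ Φ : E ≃ₗ[F] Vec, (∀ x y, H (Φ x) (Φ y) = formE hF y x) ∧ MulLike (onField Φ g) := by
    by_cases h2 : ∃ v : Vec, v ≠ 0 ∧ ∃ c : F, mat g *ᵥ v = c • v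
    · obtain ⟨v, hv, c, hc⟩ := h2
      exact field_of_eigen hF hE h3 g h1 hv hc
    · push Not at h2
      exact field_of_irreducible hF hE h3 g h2
  obtain ⟨x, hx⟩ := conj_mem_fieldNorm hF hE h3 Φ₀ Φ h₀ hΦ g hg
  exact ⟨x, Or.inr hx⟩

end Cfsg.Agent.Classical.NormalCover.UThree
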